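import Cfsg.Agent.Helper91.O7.Code
import Cfsg.Prelude.Def_Classical

/-!
# The orthogonal group `O₇(3)` as a group of packed matrices: definitions

The frozen model of `Ω₇(3)` is the commutator subgroup of the isometry group of
`x₀² + x₁y₁ + x₂y₂ + x₃y₃` on `(ZMod 3)^(Unit ⊕ (Fin 3 ⊕ Fin 3))`.  Here the same form on
`(ZMod 3)^(Fin 7)` (coordinates `x₀, x₁, x₂, x₃, y₁, y₂, y₃`), its isometry group `OM` inside the
units of the `7 × 7` matrices, and the interface `Model` to the frozen group.
-/

set_option autoImplicit false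

namespace Cfsg.Agent.Helper91.O7

open Matrix

/-- the quadratic form `x₀² + x₁y₁ + x₂y₂ + x₃y₃` in the coordinates `x₀, x₁, x₂, x₃, y₁, y₂, y₃` -/
def Q7 (v : Fin 7 → ZMod 3) : ZMod 3 := v 0 ^ 2 + (v 1 * v 4 + v 2 * v 5 + v 3 * v 6)

/-- the isometry group of `Q7` -/
def OM : Subgroup U7 where
  carrier := {u | ∀ v, Q7 (u.val *ᵥ v) = Q7 v}
  mul_mem' {a b} ha hb := by
    intro v
    rw [Units.val_mul, ← Matrix.mulVec_mulVec, ha, hb]
  one_mem' := by
    intro v
    rw [Units.val_one, Matrix.one_mulVec]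
  inv_mem' {a} ha := by
    intro v
    have h := ha (a⁻¹.val *ᵥ v)
    rw [Matrix.mulVec_mulVec, ← Units.val_mul, mul_inv_cancel, Units.val_one,
      Matrix.one_mulVec] at h
    exact h.symm

theorem mem_OM {u : U7} : u ∈ OM ↔ ∀ v, Q7 (u.val *ᵥ v) = Q7 v := Iff.rfl

/-- the code of the Gram matrix of the polar form of `Q7` -/
def Jcode : ℕ :=
  2 + 1 <<< (28 * 1 + 4 * 4) + 1 <<< (28 * 2 + 4 * 5) + 1 <<< (28 * 3 + 4 * 6)
    + 1 <<< (28 * 4 + 4 * 1) + 1 <<< (28 * 5 + 4 * 2) + 1 <<< (28 * 6 + 4 * 3)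

/-- the Gram matrix of the polar form of `Q7` -/
def Jm : M7 := toMat Jcode

/-- the Boolean check of `Aᵀ J A = J` -/
def gramOK (A : ℕ) : Bool := mulCode (mulCode (trCode A) Jcode) A == Jcode

/-- the Boolean check of `A³ = 1` -/
def cubeOK (A : ℕ) : Bool := mulCode (mulCode A A) A == idCode

/-- an isometry of order dividing three, as a code -/
def triOK (A : ℕ) : Bool := gramOK A && cubeOK A

/-- the unit with matrix `toMat A`, when this matrix is invertible (`1` otherwise) -/
noncomputable def U (A : ℕ) : U7 := by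
  classical
  exact if h : IsUnit (toMat A) then h.unit else 1

theorem U_eq {A : ℕ} {u : U7} (h : u.val = toMat A) : U A = u := by
  classical
  have hu : IsUnit (toMat A) := h ▸ u.isUnit
  unfold U
  rw [dif_pos hu]
  exact Units.ext (by rw [IsUnit.unit_spec, h])

/-- the stabiliser of the line spanned by `u` -/
def lineStab (u : Fin 7 → ZMod 3) : Subgroup U7 where
  carrier := {g | g.val *ᵥ u = u ∨ g.val *ᵥ u = -u}
  mul_mem' {a b} ha hb := by
    show (a * b).val *ᵥ u = u ∨ (a * b).val *ᵥ u = -u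
    rw [Units.val_mul, ← Matrix.mulVec_mulVec]
    rcases hb with hb | hb <;> rcases ha with ha | ha
    · left; rw [hb, ha]
    · right; rw [hb, ha]
    · right; rw [hb, Matrix.mulVec_neg, ha]
    · left; rw [hb, Matrix.mulVec_neg, ha, neg_neg]
  one_mem' := by
    left
    rw [Units.val_one, Matrix.one_mulVec]
  inv_mem' {a} ha := by
    have h1 : a⁻¹.val *ᵥ (a.val *ᵥ u) = u := by
      rw [Matrix.mulVec_mulVec, ← Units.val_mul, inv_mul_cancel, Units.val_one, Matrix.one_mulVec]
    rcases ha with ha | ha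
    · left
      rw [ha] at h1
      exact h1
    · right
      rw [ha, Matrix.mulVec_neg] at h1
      exact neg_eq_iff_eq_neg.1 h1

theorem mem_lineStab {u : Fin 7 → ZMod 3} {g : U7} :
    g ∈ lineStab u ↔ (g.val *ᵥ u = u ∨ g.val *ᵥ u = -u) := Iff.rfl

/-- the number of vectors of norm `c` fixed by `x` -/
noncomputable def fixCount (x : M7) (c : ZMod 3) : ℕ :=
  Nat.card {v : Fin 7 → ZMod 3 // x *ᵥ v = v ∧ Q7 v = c}

/-- the normaliser of the cyclic subgroup generated by `a` -/
def Nz (a : U7) : Subgroup U7 := Subgroup.normalizer (Subgroup.zpowers a : Set U7)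

/-- the `i`-th coordinate of the vector with number `n` -/
def vdig (n i : ℕ) : ℕ := n / 3 ^ i % 3

/-- the vector with number `n` -/
def vecOf (n : ℕ) : Fin 7 → ZMod 3 := fun i => ((vdig n i : ℕ) : ZMod 3)

/-- the `i`-th coordinate of the image under the matrix with code `A` of the vector with number
`n` -/
def mvEnt (A n i : ℕ) : ℕ :=
  (ent A i 0 * vdig n 0 + ent A i 1 * vdig n 1 + ent A i 2 * vdig n 2 + ent A i 3 * vdig n 3
    + ent A i 4 * vdig n 4 + ent A i 5 * vdig n 5 + ent A i 6 * vdig n 6) % 3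

/-- the value of `Q7` at the vector with number `n` -/
def q7Nat (n : ℕ) : ℕ :=
  (vdig n 0 ^ 2 + vdig n 1 * vdig n 4 + vdig n 2 * vdig n 5 + vdig n 3 * vdig n 6) % 3

/-- the vector with number `n` is fixed by the matrix with code `A` -/
def fixedB (A n : ℕ) : Bool := (List.range 7).all fun i => mvEnt A n i == vdig n i

/-- the number of vectors of norm `c` fixed by the matrix with code `A` -/
def countFix (A c : ℕ) : ℕ :=
  ((List.range 2187).filter fun n => fixedB A n && q7Nat n == c).length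

/-- the column `j` of the matrix with code `A`, as a number -/
def colNum (A j : ℕ) : ℕ :=
  ((List.range 7).map fun i => (ent A i j % 3) * 3 ^ i).sum

/-- the opposite of the column `j` of the matrix with code `A`, as a number -/
def colNeg (A j : ℕ) : ℕ :=
  ((List.range 7).map fun i => ((3 - ent A i j % 3) % 3) * 3 ^ i).sum

/-- a key of the line spanned by the column `j` of the matrix with code `A` -/
def lineKey (A j : ℕ) : ℕ := min (colNum A j) (colNeg A j)

/-- `x` and `y` generate `K`-conjugate cyclic subgroups -/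
def zconj {G : Type*} [Group G] (K : Subgroup G) (x y : G) : Prop :=
  ∃ k ∈ K, Subgroup.zpowers (k * x * k⁻¹) = Subgroup.zpowers y

/-- `n` pairwise non-conjugate subgroups of order `3` representing all the classes of subgroups
of order `3` -/
def ClassesOK (G : Type*) [Group G] (n : ℕ) : Prop :=
  ∃ Y : Fin n → Subgroup G, (∀ i, Nat.card (Y i) = 3) ∧
    (∀ i j, (∃ g : G, (Y i).map (MulAut.conj g).toMonoidHom = Y j) → i = j) ∧
    (∀ X : Subgroup G, Nat.card X = 3 →
      ∃ i, ∃ g : G, X.map (MulAut.conj g).toMonoidHom = Y i)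

/-- the interface to the frozen model: a copy `Om` of `Ω₇(3)` inside `OM` -/
structure Model where
  /-- the copy of `Ω₇(3)` -/
  Om : Subgroup U7
  le : Om ≤ OM
  normal : ∀ g ∈ OM, ∀ x ∈ Om, g * x * g⁻¹ ∈ Om
  cardO : Nat.card OM = 18341406720
  cardOm : Nat.card Om = 4585351680
  three : ∀ u ∈ OM, u ^ 3 = 1 → u ∈ Om
  equiv : Nonempty (Cfsg.POmega (ZMod 3) (Cfsg.quadFormOdd 3 (ZMod 3)) ≃* Om)

end Cfsg.Agent.Helper91.O7
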