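import Cfsg.Agent.Helper91.O7.Defs

/-!
# `Ω₇(3)`: the Boolean checks on the data

All the checks are functions of the data, given as natural numbers with fields of fixed width; they
are evaluated by the kernel in the files `Chk*`.  The products of codes are computed by the
unrolled function `mulU`, which is `mulCode` by definition.
-/

set_option autoImplicit false
set_option maxRecDepth 100000

namespace Cfsg.Agent.Helper91.O7

/-- the product of codes, unrolled (generated by a script) -/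
def mulU (A B : ℕ) : ℕ :=
  Nat.add (Nat.mod (Nat.add (Nat.add (Nat.add (Nat.add (Nat.add (Nat.add (Nat.mul (Nat.land (Nat.shiftRight A 0) 15) (Nat.land (Nat.shiftRight B 0) 15)) (Nat.mul (Nat.land (Nat.shiftRight A 4) 15) (Nat.land (Nat.shiftRight B 28) 15))) (Nat.mul (Nat.land (Nat.shiftRight A 8) 15) (Nat.land (Nat.shiftRight B 56) 15))) (Nat.mul (Nat.land (Nat.shiftRight A 12) 15) (Nat.land (Nat.shiftRight B 84) 15))) (Nat.mul (Nat.land (Nat.shiftRight A 16) 15) (Nat.land (Nat.shiftRight B 112) 15))) (Nat.mul (Nat.land (Nat.shiftRight A 20) 15) (Nat.land (Nat.shiftRight B 140) 15))) (Nat.mul (Nat.land (Nat.shiftRight A 24) 15) (Nat.land (Nat.shiftRight B 168) 15))) 3)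
    (Nat.mul 16 (Nat.add (Nat.mod (Nat.add (Nat.add (Nat.add (Nat.add (Nat.add (Nat.add (Nat.mul (Nat.land (Nat.shiftRight A 0) 15) (Nat.land (Nat.shiftRight B 4) 15)) (Nat.mul (Nat.land (Nat.shiftRight A 4) 15) (Nat.land (Nat.shiftRight B 32) 15))) (Nat.mul (Nat.land (Nat.shiftRight A 8) 15) (Nat.land (Nat.shiftRight B 60) 15))) (Nat.mul (Nat.land (Nat.shiftRight A 12) 15) (Nat.land (Nat.shiftRight B 88) 15))) (Nat.mul (Nat.land (Nat.shiftRight A 16) 15) (Nat.land (Nat.shiftRight B 116) 15))) (Nat.mul (Nat.land (Nat.shiftRight A 20) 15) (Nat.land (Nat.shiftRight B 144) 15))) (Nat.mul (Nat.land (Nat.shiftRight A 24) 15) (Nat.land (Nat.shiftRight B 172) 15))) 3)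
    (Nat.mul 16 (Nat.add (Nat.mod (Nat.add (Nat.add (Nat.add (Nat.add (Nat.add (Nat.add (Nat.mul (Nat.land (Nat.shiftRight A 0) 15) (Nat.land (Nat.shiftRight B 8) 15)) (Nat.mul (Nat.land (Nat.shiftRight A 4) 15) (Nat.land (Nat.shiftRight B 36) 15))) (Nat.mul (Nat.land (Nat.shiftRight A 8) 15) (Nat.land (Nat.shiftRight B 64) 15))) (Nat.mul (Nat.land (Nat.shiftRight A 12) 15) (Nat.land (Nat.shiftRight B 92) 15))) (Nat.mul (Nat.land (Nat.shiftRight A 16) 15) (Nat.land (Nat.shiftRight B 120) 15))) (Nat.mul (Nat.land (Nat.shiftRight A 20) 15) (Nat.land (Nat.shiftRight B 148) 15))) (Nat.mul (Nat.land (Nat.shiftRight A 24) 15) (Nat.land (Nat.shiftRight B 176) 15))) 3)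
    (Nat.mul 16 (Nat.add (Nat.mod (Nat.add (Nat.add (Nat.add (Nat.add (Nat.add (Nat.add (Nat.mul (Nat.land (Nat.shiftRight A 0) 15) (Nat.land (Nat.shiftRight B 12) 15)) (Nat.mul (Nat.land (Nat.shiftRight A 4) 15) (Nat.land (Nat.shiftRight B 40) 15))) (Nat.mul (Nat.land (Nat.shiftRight A 8) 15) (Nat.land (Nat.shiftRight B 68) 15))) (Nat.mul (Nat.land (Nat.shiftRight A 12) 15) (Nat.land (Nat.shiftRight B 96) 15))) (Nat.mul (Nat.land (Nat.shiftRight A 16) 15) (Nat.land (Nat.shiftRight B 124) 15))) (Nat.mul (Nat.land (Nat.shiftRight A 20) 15) (Nat.land (Nat.shiftRight B 152) 15))) (Nat.mul (Nat.land (Nat.shiftRight A 24) 15) (Nat.land (Nat.shiftRight B 180) 15))) 3)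
    (Nat.mul 16 (Nat.add (Nat.mod (Nat.add (Nat.add (Nat.add (Nat.add (Nat.add (Nat.add (Nat.mul (Nat.land (Nat.shiftRight A 0) 15) (Nat.land (Nat.shiftRight B 16) 15)) (Nat.mul (Nat.land (Nat.shiftRight A 4) 15) (Nat.land (Nat.shiftRight B 44) 15))) (Nat.mul (Nat.land (Nat.shiftRight A 8) 15) (Nat.land (Nat.shiftRight B 72) 15))) (Nat.mul (Nat.land (Nat.shiftRight A 12) 15) (Nat.land (Nat.shiftRight B 100) 15))) (Nat.mul (Nat.land (Nat.shiftRight A 16) 15) (Nat.land (Nat.shiftRight B 128) 15))) (Nat.mul (Nat.land (Nat.shiftRight A 20) 15) (Nat.land (Nat.shiftRight B 156) 15))) (Nat.mul (Nat.land (Nat.shiftRight A 24) 15) (Nat.land (Nat.shiftRight B 184) 15))) 3)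
    (Nat.mul 16 (Nat.add (Nat.mod (Nat.add (Nat.add (Nat.add (Nat.add (Nat.add (Nat.add (Nat.mul (Nat.land (Nat.shiftRight A 0) 15) (Nat.land (Nat.shiftRight B 20) 15)) (Nat.mul (Nat.land (Nat.shiftRight A 4) 15) (Nat.land (Nat.shiftRight B 48) 15))) (Nat.mul (Nat.land (Nat.shiftRight A 8) 15) (Nat.land (Nat.shiftRight B 76) 15))) (Nat.mul (Nat.land (Nat.shiftRight A 12) 15) (Nat.land (Nat.shiftRight B 104) 15))) (Nat.mul (Nat.land (Nat.shiftRight A 16) 15) (Nat.land (Nat.shiftRight B 132) 15))) (Nat.mul (Nat.land (Nat.shiftRight A 20) 15) (Nat.land (Nat.shiftRight B 160) 15))) (Nat.mul (Nat.land (Nat.shiftRight A 24) 15) (Nat.land (Nat.shiftRight B 188) 15))) 3)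
    (Nat.mul 16 (Nat.add (Nat.mod (Nat.add (Nat.add (Nat.add (Nat.add (Nat.add (Nat.add (Nat.mul (Nat.land (Nat.shiftRight A 0) 15) (Nat.land (Nat.shiftRight B 24) 15)) (Nat.mul (Nat.land (Nat.shiftRight A 4) 15) (Nat.land (Nat.shiftRight B 52) 15))) (Nat.mul (Nat.land (Nat.shiftRight A 8) 15) (Nat.land (Nat.shiftRight B 80) 15))) (Nat.mul (Nat.land (Nat.shiftRight A 12) 15) (Nat.land (Nat.shiftRight B 108) 15))) (Nat.mul (Nat.land (Nat.shiftRight A 16) 15) (Nat.land (Nat.shiftRight B 136) 15))) (Nat.mul (Nat.land (Nat.shiftRight A 20) 15) (Nat.land (Nat.shiftRight B 164) 15))) (Nat.mul (Nat.land (Nat.shiftRight A 24) 15) (Nat.land (Nat.shiftRight B 192) 15))) 3)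
    (Nat.mul 16 (Nat.add (Nat.mod (Nat.add (Nat.add (Nat.add (Nat.add (Nat.add (Nat.add (Nat.mul (Nat.land (Nat.shiftRight A 28) 15) (Nat.land (Nat.shiftRight B 0) 15)) (Nat.mul (Nat.land (Nat.shiftRight A 32) 15) (Nat.land (Nat.shiftRight B 28) 15))) (Nat.mul (Nat.land (Nat.shiftRight A 36) 15) (Nat.land (Nat.shiftRight B 56) 15))) (Nat.mul (Nat.land (Nat.shiftRight A 40) 15) (Nat.land (Nat.shiftRight B 84) 15))) (Nat.mul (Nat.land (Nat.shiftRight A 44) 15) (Nat.land (Nat.shiftRight B 112) 15))) (Nat.mul (Nat.land (Nat.shiftRight A 48) 15) (Nat.land (Nat.shiftRight B 140) 15))) (Nat.mul (Nat.land (Nat.shiftRight A 52) 15) (Nat.land (Nat.shiftRight B 168) 15))) 3)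
    (Nat.mul 16 (Nat.add (Nat.mod (Nat.add (Nat.add (Nat.add (Nat.add (Nat.add (Nat.add (Nat.mul (Nat.land (Nat.shiftRight A 28) 15) (Nat.land (Nat.shiftRight B 4) 15)) (Nat.mul (Nat.land (Nat.shiftRight A 32) 15) (Nat.land (Nat.shiftRight B 32) 15))) (Nat.mul (Nat.land (Nat.shiftRight A 36) 15) (Nat.land (Nat.shiftRight B 60) 15))) (Nat.mul (Nat.land (Nat.shiftRight A 40) 15) (Nat.land (Nat.shiftRight B 88) 15))) (Nat.mul (Nat.land (Nat.shiftRight A 44) 15) (Nat.land (Nat.shiftRight B 116) 15))) (Nat.mul (Nat.land (Nat.shiftRight A 48) 15) (Nat.land (Nat.shiftRight B 144) 15))) (Nat.mul (Nat.land (Nat.shiftRight A 52) 15) (Nat.land (Nat.shiftRight B 172) 15))) 3)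
    (Nat.mul 16 (Nat.add (Nat.mod (Nat.add (Nat.add (Nat.add (Nat.add (Nat.add (Nat.add (Nat.mul (Nat.land (Nat.shiftRight A 28) 15) (Nat.land (Nat.shiftRight B 8) 15)) (Nat.mul (Nat.land (Nat.shiftRight A 32) 15) (Nat.land (Nat.shiftRight B 36) 15))) (Nat.mul (Nat.land (Nat.shiftRight A 36) 15) (Nat.land (Nat.shiftRight B 64) 15))) (Nat.mul (Nat.land (Nat.shiftRight A 40) 15) (Nat.land (Nat.shiftRight B 92) 15))) (Nat.mul (Nat.land (Nat.shiftRight A 44) 15) (Nat.land (Nat.shiftRight B 120) 15))) (Nat.mul (Nat.land (Nat.shiftRight A 48) 15) (Nat.land (Nat.shiftRight B 148) 15))) (Nat.mul (Nat.land (Nat.shiftRight A 52) 15) (Nat.land (Nat.shiftRight B 176) 15))) 3)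
    (Nat.mul 16 (Nat.add (Nat.mod (Nat.add (Nat.add (Nat.add (Nat.add (Nat.add (Nat.add (Nat.mul (Nat.land (Nat.shiftRight A 28) 15) (Nat.land (Nat.shiftRight B 12) 15)) (Nat.mul (Nat.land (Nat.shiftRight A 32) 15) (Nat.land (Nat.shiftRight B 40) 15))) (Nat.mul (Nat.land (Nat.shiftRight A 36) 15) (Nat.land (Nat.shiftRight B 68) 15))) (Nat.mul (Nat.land (Nat.shiftRight A 40) 15) (Nat.land (Nat.shiftRight B 96) 15))) (Nat.mul (Nat.land (Nat.shiftRight A 44) 15) (Nat.land (Nat.shiftRight B 124) 15))) (Nat.mul (Nat.land (Nat.shiftRight A 48) 15) (Nat.land (Nat.shiftRight B 152) 15))) (Nat.mul (Nat.land (Nat.shiftRight A 52) 15) (Nat.land (Nat.shiftRight B 180) 15))) 3)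
    (Nat.mul 16 (Nat.add (Nat.mod (Nat.add (Nat.add (Nat.add (Nat.add (Nat.add (Nat.add (Nat.mul (Nat.land (Nat.shiftRight A 28) 15) (Nat.land (Nat.shiftRight B 16) 15)) (Nat.mul (Nat.land (Nat.shiftRight A 32) 15) (Nat.land (Nat.shiftRight B 44) 15))) (Nat.mul (Nat.land (Nat.shiftRight A 36) 15) (Nat.land (Nat.shiftRight B 72) 15))) (Nat.mul (Nat.land (Nat.shiftRight A 40) 15) (Nat.land (Nat.shiftRight B 100) 15))) (Nat.mul (Nat.land (Nat.shiftRight A 44) 15) (Nat.land (Nat.shiftRight B 128) 15))) (Nat.mul (Nat.land (Nat.shiftRight A 48) 15) (Nat.land (Nat.shiftRight B 156) 15))) (Nat.mul (Nat.land (Nat.shiftRight A 52) 15) (Nat.land (Nat.shiftRight B 184) 15))) 3)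
    (Nat.mul 16 (Nat.add (Nat.mod (Nat.add (Nat.add (Nat.add (Nat.add (Nat.add (Nat.add (Nat.mul (Nat.land (Nat.shiftRight A 28) 15) (Nat.land (Nat.shiftRight B 20) 15)) (Nat.mul (Nat.land (Nat.shiftRight A 32) 15) (Nat.land (Nat.shiftRight B 48) 15))) (Nat.mul (Nat.land (Nat.shiftRight A 36) 15) (Nat.land (Nat.shiftRight B 76) 15))) (Nat.mul (Nat.land (Nat.shiftRight A 40) 15) (Nat.land (Nat.shiftRight B 104) 15))) (Nat.mul (Nat.land (Nat.shiftRight A 44) 15) (Nat.land (Nat.shiftRight B 132) 15))) (Nat.mul (Nat.land (Nat.shiftRight A 48) 15) (Nat.land (Nat.shiftRight B 160) 15))) (Nat.mul (Nat.land (Nat.shiftRight A 52) 15) (Nat.land (Nat.shiftRight B 188) 15))) 3)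
    (Nat.mul 16 (Nat.add (Nat.mod (Nat.add (Nat.add (Nat.add (Nat.add (Nat.add (Nat.add (Nat.mul (Nat.land (Nat.shiftRight A 28) 15) (Nat.land (Nat.shiftRight B 24) 15)) (Nat.mul (Nat.land (Nat.shiftRight A 32) 15) (Nat.land (Nat.shiftRight B 52) 15))) (Nat.mul (Nat.land (Nat.shiftRight A 36) 15) (Nat.land (Nat.shiftRight B 80) 15))) (Nat.mul (Nat.land (Nat.shiftRight A 40) 15) (Nat.land (Nat.shiftRight B 108) 15))) (Nat.mul (Nat.land (Nat.shiftRight A 44) 15) (Nat.land (Nat.shiftRight B 136) 15))) (Nat.mul (Nat.land (Nat.shiftRight A 48) 15) (Nat.land (Nat.shiftRight B 164) 15))) (Nat.mul (Nat.land (Nat.shiftRight A 52) 15) (Nat.land (Nat.shiftRight B 192) 15))) 3)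
    (Nat.mul 16 (Nat.add (Nat.mod (Nat.add (Nat.add (Nat.add (Nat.add (Nat.add (Nat.add (Nat.mul (Nat.land (Nat.shiftRight A 56) 15) (Nat.land (Nat.shiftRight B 0) 15)) (Nat.mul (Nat.land (Nat.shiftRight A 60) 15) (Nat.land (Nat.shiftRight B 28) 15))) (Nat.mul (Nat.land (Nat.shiftRight A 64) 15) (Nat.land (Nat.shiftRight B 56) 15))) (Nat.mul (Nat.land (Nat.shiftRight A 68) 15) (Nat.land (Nat.shiftRight B 84) 15))) (Nat.mul (Nat.land (Nat.shiftRight A 72) 15) (Nat.land (Nat.shiftRight B 112) 15))) (Nat.mul (Nat.land (Nat.shiftRight A 76) 15) (Nat.land (Nat.shiftRight B 140) 15))) (Nat.mul (Nat.land (Nat.shiftRight A 80) 15) (Nat.land (Nat.shiftRight B 168) 15))) 3)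
    (Nat.mul 16 (Nat.add (Nat.mod (Nat.add (Nat.add (Nat.add (Nat.add (Nat.add (Nat.add (Nat.mul (Nat.land (Nat.shiftRight A 56) 15) (Nat.land (Nat.shiftRight B 4) 15)) (Nat.mul (Nat.land (Nat.shiftRight A 60) 15) (Nat.land (Nat.shiftRight B 32) 15))) (Nat.mul (Nat.land (Nat.shiftRight A 64) 15) (Nat.land (Nat.shiftRight B 60) 15))) (Nat.mul (Nat.land (Nat.shiftRight A 68) 15) (Nat.land (Nat.shiftRight B 88) 15))) (Nat.mul (Nat.land (Nat.shiftRight A 72) 15) (Nat.land (Nat.shiftRight B 116) 15))) (Nat.mul (Nat.land (Nat.shiftRight A 76) 15) (Nat.land (Nat.shiftRight B 144) 15))) (Nat.mul (Nat.land (Nat.shiftRight A 80) 15) (Nat.land (Nat.shiftRight B 172) 15))) 3)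
    (Nat.mul 16 (Nat.add (Nat.mod (Nat.add (Nat.add (Nat.add (Nat.add (Nat.add (Nat.add (Nat.mul (Nat.land (Nat.shiftRight A 56) 15) (Nat.land (Nat.shiftRight B 8) 15)) (Nat.mul (Nat.land (Nat.shiftRight A 60) 15) (Nat.land (Nat.shiftRight B 36) 15))) (Nat.mul (Nat.land (Nat.shiftRight A 64) 15) (Nat.land (Nat.shiftRight B 64) 15))) (Nat.mul (Nat.land (Nat.shiftRight A 68) 15) (Nat.land (Nat.shiftRight B 92) 15))) (Nat.mul (Nat.land (Nat.shiftRight A 72) 15) (Nat.land (Nat.shiftRight B 120) 15))) (Nat.mul (Nat.land (Nat.shiftRight A 76) 15) (Nat.land (Nat.shiftRight B 148) 15))) (Nat.mul (Nat.land (Nat.shiftRight A 80) 15) (Nat.land (Nat.shiftRight B 176) 15))) 3)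
    (Nat.mul 16 (Nat.add (Nat.mod (Nat.add (Nat.add (Nat.add (Nat.add (Nat.add (Nat.add (Nat.mul (Nat.land (Nat.shiftRight A 56) 15) (Nat.land (Nat.shiftRight B 12) 15)) (Nat.mul (Nat.land (Nat.shiftRight A 60) 15) (Nat.land (Nat.shiftRight B 40) 15))) (Nat.mul (Nat.land (Nat.shiftRight A 64) 15) (Nat.land (Nat.shiftRight B 68) 15))) (Nat.mul (Nat.land (Nat.shiftRight A 68) 15) (Nat.land (Nat.shiftRight B 96) 15))) (Nat.mul (Nat.land (Nat.shiftRight A 72) 15) (Nat.land (Nat.shiftRight B 124) 15))) (Nat.mul (Nat.land (Nat.shiftRight A 76) 15) (Nat.land (Nat.shiftRight B 152) 15))) (Nat.mul (Nat.land (Nat.shiftRight A 80) 15) (Nat.land (Nat.shiftRight B 180) 15))) 3)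
    (Nat.mul 16 (Nat.add (Nat.mod (Nat.add (Nat.add (Nat.add (Nat.add (Nat.add (Nat.add (Nat.mul (Nat.land (Nat.shiftRight A 56) 15) (Nat.land (Nat.shiftRight B 16) 15)) (Nat.mul (Nat.land (Nat.shiftRight A 60) 15) (Nat.land (Nat.shiftRight B 44) 15))) (Nat.mul (Nat.land (Nat.shiftRight A 64) 15) (Nat.land (Nat.shiftRight B 72) 15))) (Nat.mul (Nat.land (Nat.shiftRight A 68) 15) (Nat.land (Nat.shiftRight B 100) 15))) (Nat.mul (Nat.land (Nat.shiftRight A 72) 15) (Nat.land (Nat.shiftRight B 128) 15))) (Nat.mul (Nat.land (Nat.shiftRight A 76) 15) (Nat.land (Nat.shiftRight B 156) 15))) (Nat.mul (Nat.land (Nat.shiftRight A 80) 15) (Nat.land (Nat.shiftRight B 184) 15))) 3)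
    (Nat.mul 16 (Nat.add (Nat.mod (Nat.add (Nat.add (Nat.add (Nat.add (Nat.add (Nat.add (Nat.mul (Nat.land (Nat.shiftRight A 56) 15) (Nat.land (Nat.shiftRight B 20) 15)) (Nat.mul (Nat.land (Nat.shiftRight A 60) 15) (Nat.land (Nat.shiftRight B 48) 15))) (Nat.mul (Nat.land (Nat.shiftRight A 64) 15) (Nat.land (Nat.shiftRight B 76) 15))) (Nat.mul (Nat.land (Nat.shiftRight A 68) 15) (Nat.land (Nat.shiftRight B 104) 15))) (Nat.mul (Nat.land (Nat.shiftRight A 72) 15) (Nat.land (Nat.shiftRight B 132) 15))) (Nat.mul (Nat.land (Nat.shiftRight A 76) 15) (Nat.land (Nat.shiftRight B 160) 15))) (Nat.mul (Nat.land (Nat.shiftRight A 80) 15) (Nat.land (Nat.shiftRight B 188) 15))) 3)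
    (Nat.mul 16 (Nat.add (Nat.mod (Nat.add (Nat.add (Nat.add (Nat.add (Nat.add (Nat.add (Nat.mul (Nat.land (Nat.shiftRight A 56) 15) (Nat.land (Nat.shiftRight B 24) 15)) (Nat.mul (Nat.land (Nat.shiftRight A 60) 15) (Nat.land (Nat.shiftRight B 52) 15))) (Nat.mul (Nat.land (Nat.shiftRight A 64) 15) (Nat.land (Nat.shiftRight B 80) 15))) (Nat.mul (Nat.land (Nat.shiftRight A 68) 15) (Nat.land (Nat.shiftRight B 108) 15))) (Nat.mul (Nat.land (Nat.shiftRight A 72) 15) (Nat.land (Nat.shiftRight B 136) 15))) (Nat.mul (Nat.land (Nat.shiftRight A 76) 15) (Nat.land (Nat.shiftRight B 164) 15))) (Nat.mul (Nat.land (Nat.shiftRight A 80) 15) (Nat.land (Nat.shiftRight B 192) 15))) 3)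
    (Nat.mul 16 (Nat.add (Nat.mod (Nat.add (Nat.add (Nat.add (Nat.add (Nat.add (Nat.add (Nat.mul (Nat.land (Nat.shiftRight A 84) 15) (Nat.land (Nat.shiftRight B 0) 15)) (Nat.mul (Nat.land (Nat.shiftRight A 88) 15) (Nat.land (Nat.shiftRight B 28) 15))) (Nat.mul (Nat.land (Nat.shiftRight A 92) 15) (Nat.land (Nat.shiftRight B 56) 15))) (Nat.mul (Nat.land (Nat.shiftRight A 96) 15) (Nat.land (Nat.shiftRight B 84) 15))) (Nat.mul (Nat.land (Nat.shiftRight A 100) 15) (Nat.land (Nat.shiftRight B 112) 15))) (Nat.mul (Nat.land (Nat.shiftRight A 104) 15) (Nat.land (Nat.shiftRight B 140) 15))) (Nat.mul (Nat.land (Nat.shiftRight A 108) 15) (Nat.land (Nat.shiftRight B 168) 15))) 3)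
    (Nat.mul 16 (Nat.add (Nat.mod (Nat.add (Nat.add (Nat.add (Nat.add (Nat.add (Nat.add (Nat.mul (Nat.land (Nat.shiftRight A 84) 15) (Nat.land (Nat.shiftRight B 4) 15)) (Nat.mul (Nat.land (Nat.shiftRight A 88) 15) (Nat.land (Nat.shiftRight B 32) 15))) (Nat.mul (Nat.land (Nat.shiftRight A 92) 15) (Nat.land (Nat.shiftRight B 60) 15))) (Nat.mul (Nat.land (Nat.shiftRight A 96) 15) (Nat.land (Nat.shiftRight B 88) 15))) (Nat.mul (Nat.land (Nat.shiftRight A 100) 15) (Nat.land (Nat.shiftRight B 116) 15))) (Nat.mul (Nat.land (Nat.shiftRight A 104) 15) (Nat.land (Nat.shiftRight B 144) 15))) (Nat.mul (Nat.land (Nat.shiftRight A 108) 15) (Nat.land (Nat.shiftRight B 172) 15))) 3)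
    (Nat.mul 16 (Nat.add (Nat.mod (Nat.add (Nat.add (Nat.add (Nat.add (Nat.add (Nat.add (Nat.mul (Nat.land (Nat.shiftRight A 84) 15) (Nat.land (Nat.shiftRight B 8) 15)) (Nat.mul (Nat.land (Nat.shiftRight A 88) 15) (Nat.land (Nat.shiftRight B 36) 15))) (Nat.mul (Nat.land (Nat.shiftRight A 92) 15) (Nat.land (Nat.shiftRight B 64) 15))) (Nat.mul (Nat.land (Nat.shiftRight A 96) 15) (Nat.land (Nat.shiftRight B 92) 15))) (Nat.mul (Nat.land (Nat.shiftRight A 100) 15) (Nat.land (Nat.shiftRight B 120) 15))) (Nat.mul (Nat.land (Nat.shiftRight A 104) 15) (Nat.land (Nat.shiftRight B 148) 15))) (Nat.mul (Nat.land (Nat.shiftRight A 108) 15) (Nat.land (Nat.shiftRight B 176) 15))) 3)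
    (Nat.mul 16 (Nat.add (Nat.mod (Nat.add (Nat.add (Nat.add (Nat.add (Nat.add (Nat.add (Nat.mul (Nat.land (Nat.shiftRight A 84) 15) (Nat.land (Nat.shiftRight B 12) 15)) (Nat.mul (Nat.land (Nat.shiftRight A 88) 15) (Nat.land (Nat.shiftRight B 40) 15))) (Nat.mul (Nat.land (Nat.shiftRight A 92) 15) (Nat.land (Nat.shiftRight B 68) 15))) (Nat.mul (Nat.land (Nat.shiftRight A 96) 15) (Nat.land (Nat.shiftRight B 96) 15))) (Nat.mul (Nat.land (Nat.shiftRight A 100) 15) (Nat.land (Nat.shiftRight B 124) 15))) (Nat.mul (Nat.land (Nat.shiftRight A 104) 15) (Nat.land (Nat.shiftRight B 152) 15))) (Nat.mul (Nat.land (Nat.shiftRight A 108) 15) (Nat.land (Nat.shiftRight B 180) 15))) 3)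
    (Nat.mul 16 (Nat.add (Nat.mod (Nat.add (Nat.add (Nat.add (Nat.add (Nat.add (Nat.add (Nat.mul (Nat.land (Nat.shiftRight A 84) 15) (Nat.land (Nat.shiftRight B 16) 15)) (Nat.mul (Nat.land (Nat.shiftRight A 88) 15) (Nat.land (Nat.shiftRight B 44) 15))) (Nat.mul (Nat.land (Nat.shiftRight A 92) 15) (Nat.land (Nat.shiftRight B 72) 15))) (Nat.mul (Nat.land (Nat.shiftRight A 96) 15) (Nat.land (Nat.shiftRight B 100) 15))) (Nat.mul (Nat.land (Nat.shiftRight A 100) 15) (Nat.land (Nat.shiftRight B 128) 15))) (Nat.mul (Nat.land (Nat.shiftRight A 104) 15) (Nat.land (Nat.shiftRight B 156) 15))) (Nat.mul (Nat.land (Nat.shiftRight A 108) 15) (Nat.land (Nat.shiftRight B 184) 15))) 3)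
    (Nat.mul 16 (Nat.add (Nat.mod (Nat.add (Nat.add (Nat.add (Nat.add (Nat.add (Nat.add (Nat.mul (Nat.land (Nat.shiftRight A 84) 15) (Nat.land (Nat.shiftRight B 20) 15)) (Nat.mul (Nat.land (Nat.shiftRight A 88) 15) (Nat.land (Nat.shiftRight B 48) 15))) (Nat.mul (Nat.land (Nat.shiftRight A 92) 15) (Nat.land (Nat.shiftRight B 76) 15))) (Nat.mul (Nat.land (Nat.shiftRight A 96) 15) (Nat.land (Nat.shiftRight B 104) 15))) (Nat.mul (Nat.land (Nat.shiftRight A 100) 15) (Nat.land (Nat.shiftRight B 132) 15))) (Nat.mul (Nat.land (Nat.shiftRight A 104) 15) (Nat.land (Nat.shiftRight B 160) 15))) (Nat.mul (Nat.land (Nat.shiftRight A 108) 15) (Nat.land (Nat.shiftRight B 188) 15))) 3)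
    (Nat.mul 16 (Nat.add (Nat.mod (Nat.add (Nat.add (Nat.add (Nat.add (Nat.add (Nat.add (Nat.mul (Nat.land (Nat.shiftRight A 84) 15) (Nat.land (Nat.shiftRight B 24) 15)) (Nat.mul (Nat.land (Nat.shiftRight A 88) 15) (Nat.land (Nat.shiftRight B 52) 15))) (Nat.mul (Nat.land (Nat.shiftRight A 92) 15) (Nat.land (Nat.shiftRight B 80) 15))) (Nat.mul (Nat.land (Nat.shiftRight A 96) 15) (Nat.land (Nat.shiftRight B 108) 15))) (Nat.mul (Nat.land (Nat.shiftRight A 100) 15) (Nat.land (Nat.shiftRight B 136) 15))) (Nat.mul (Nat.land (Nat.shiftRight A 104) 15) (Nat.land (Nat.shiftRight B 164) 15))) (Nat.mul (Nat.land (Nat.shiftRight A 108) 15) (Nat.land (Nat.shiftRight B 192) 15))) 3)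
    (Nat.mul 16 (Nat.add (Nat.mod (Nat.add (Nat.add (Nat.add (Nat.add (Nat.add (Nat.add (Nat.mul (Nat.land (Nat.shiftRight A 112) 15) (Nat.land (Nat.shiftRight B 0) 15)) (Nat.mul (Nat.land (Nat.shiftRight A 116) 15) (Nat.land (Nat.shiftRight B 28) 15))) (Nat.mul (Nat.land (Nat.shiftRight A 120) 15) (Nat.land (Nat.shiftRight B 56) 15))) (Nat.mul (Nat.land (Nat.shiftRight A 124) 15) (Nat.land (Nat.shiftRight B 84) 15))) (Nat.mul (Nat.land (Nat.shiftRight A 128) 15) (Nat.land (Nat.shiftRight B 112) 15))) (Nat.mul (Nat.land (Nat.shiftRight A 132) 15) (Nat.land (Nat.shiftRight B 140) 15))) (Nat.mul (Nat.land (Nat.shiftRight A 136) 15) (Nat.land (Nat.shiftRight B 168) 15))) 3)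
    (Nat.mul 16 (Nat.add (Nat.mod (Nat.add (Nat.add (Nat.add (Nat.add (Nat.add (Nat.add (Nat.mul (Nat.land (Nat.shiftRight A 112) 15) (Nat.land (Nat.shiftRight B 4) 15)) (Nat.mul (Nat.land (Nat.shiftRight A 116) 15) (Nat.land (Nat.shiftRight B 32) 15))) (Nat.mul (Nat.land (Nat.shiftRight A 120) 15) (Nat.land (Nat.shiftRight B 60) 15))) (Nat.mul (Nat.land (Nat.shiftRight A 124) 15) (Nat.land (Nat.shiftRight B 88) 15))) (Nat.mul (Nat.land (Nat.shiftRight A 128) 15) (Nat.land (Nat.shiftRight B 116) 15))) (Nat.mul (Nat.land (Nat.shiftRight A 132) 15) (Nat.land (Nat.shiftRight B 144) 15))) (Nat.mul (Nat.land (Nat.shiftRight A 136) 15) (Nat.land (Nat.shiftRight B 172) 15))) 3)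
    (Nat.mul 16 (Nat.add (Nat.mod (Nat.add (Nat.add (Nat.add (Nat.add (Nat.add (Nat.add (Nat.mul (Nat.land (Nat.shiftRight A 112) 15) (Nat.land (Nat.shiftRight B 8) 15)) (Nat.mul (Nat.land (Nat.shiftRight A 116) 15) (Nat.land (Nat.shiftRight B 36) 15))) (Nat.mul (Nat.land (Nat.shiftRight A 120) 15) (Nat.land (Nat.shiftRight B 64) 15))) (Nat.mul (Nat.land (Nat.shiftRight A 124) 15) (Nat.land (Nat.shiftRight B 92) 15))) (Nat.mul (Nat.land (Nat.shiftRight A 128) 15) (Nat.land (Nat.shiftRight B 120) 15))) (Nat.mul (Nat.land (Nat.shiftRight A 132) 15) (Nat.land (Nat.shiftRight B 148) 15))) (Nat.mul (Nat.land (Nat.shiftRight A 136) 15) (Nat.land (Nat.shiftRight B 176) 15))) 3)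
    (Nat.mul 16 (Nat.add (Nat.mod (Nat.add (Nat.add (Nat.add (Nat.add (Nat.add (Nat.add (Nat.mul (Nat.land (Nat.shiftRight A 112) 15) (Nat.land (Nat.shiftRight B 12) 15)) (Nat.mul (Nat.land (Nat.shiftRight A 116) 15) (Nat.land (Nat.shiftRight B 40) 15))) (Nat.mul (Nat.land (Nat.shiftRight A 120) 15) (Nat.land (Nat.shiftRight B 68) 15))) (Nat.mul (Nat.land (Nat.shiftRight A 124) 15) (Nat.land (Nat.shiftRight B 96) 15))) (Nat.mul (Nat.land (Nat.shiftRight A 128) 15) (Nat.land (Nat.shiftRight B 124) 15))) (Nat.mul (Nat.land (Nat.shiftRight A 132) 15) (Nat.land (Nat.shiftRight B 152) 15))) (Nat.mul (Nat.land (Nat.shiftRight A 136) 15) (Nat.land (Nat.shiftRight B 180) 15))) 3)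
    (Nat.mul 16 (Nat.add (Nat.mod (Nat.add (Nat.add (Nat.add (Nat.add (Nat.add (Nat.add (Nat.mul (Nat.land (Nat.shiftRight A 112) 15) (Nat.land (Nat.shiftRight B 16) 15)) (Nat.mul (Nat.land (Nat.shiftRight A 116) 15) (Nat.land (Nat.shiftRight B 44) 15))) (Nat.mul (Nat.land (Nat.shiftRight A 120) 15) (Nat.land (Nat.shiftRight B 72) 15))) (Nat.mul (Nat.land (Nat.shiftRight A 124) 15) (Nat.land (Nat.shiftRight B 100) 15))) (Nat.mul (Nat.land (Nat.shiftRight A 128) 15) (Nat.land (Nat.shiftRight B 128) 15))) (Nat.mul (Nat.land (Nat.shiftRight A 132) 15) (Nat.land (Nat.shiftRight B 156) 15))) (Nat.mul (Nat.land (Nat.shiftRight A 136) 15) (Nat.land (Nat.shiftRight B 184) 15))) 3)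
    (Nat.mul 16 (Nat.add (Nat.mod (Nat.add (Nat.add (Nat.add (Nat.add (Nat.add (Nat.add (Nat.mul (Nat.land (Nat.shiftRight A 112) 15) (Nat.land (Nat.shiftRight B 20) 15)) (Nat.mul (Nat.land (Nat.shiftRight A 116) 15) (Nat.land (Nat.shiftRight B 48) 15))) (Nat.mul (Nat.land (Nat.shiftRight A 120) 15) (Nat.land (Nat.shiftRight B 76) 15))) (Nat.mul (Nat.land (Nat.shiftRight A 124) 15) (Nat.land (Nat.shiftRight B 104) 15))) (Nat.mul (Nat.land (Nat.shiftRight A 128) 15) (Nat.land (Nat.shiftRight B 132) 15))) (Nat.mul (Nat.land (Nat.shiftRight A 132) 15) (Nat.land (Nat.shiftRight B 160) 15))) (Nat.mul (Nat.land (Nat.shiftRight A 136) 15) (Nat.land (Nat.shiftRight B 188) 15))) 3)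
    (Nat.mul 16 (Nat.add (Nat.mod (Nat.add (Nat.add (Nat.add (Nat.add (Nat.add (Nat.add (Nat.mul (Nat.land (Nat.shiftRight A 112) 15) (Nat.land (Nat.shiftRight B 24) 15)) (Nat.mul (Nat.land (Nat.shiftRight A 116) 15) (Nat.land (Nat.shiftRight B 52) 15))) (Nat.mul (Nat.land (Nat.shiftRight A 120) 15) (Nat.land (Nat.shiftRight B 80) 15))) (Nat.mul (Nat.land (Nat.shiftRight A 124) 15) (Nat.land (Nat.shiftRight B 108) 15))) (Nat.mul (Nat.land (Nat.shiftRight A 128) 15) (Nat.land (Nat.shiftRight B 136) 15))) (Nat.mul (Nat.land (Nat.shiftRight A 132) 15) (Nat.land (Nat.shiftRight B 164) 15))) (Nat.mul (Nat.land (Nat.shiftRight A 136) 15) (Nat.land (Nat.shiftRight B 192) 15))) 3)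
    (Nat.mul 16 (Nat.add (Nat.mod (Nat.add (Nat.add (Nat.add (Nat.add (Nat.add (Nat.add (Nat.mul (Nat.land (Nat.shiftRight A 140) 15) (Nat.land (Nat.shiftRight B 0) 15)) (Nat.mul (Nat.land (Nat.shiftRight A 144) 15) (Nat.land (Nat.shiftRight B 28) 15))) (Nat.mul (Nat.land (Nat.shiftRight A 148) 15) (Nat.land (Nat.shiftRight B 56) 15))) (Nat.mul (Nat.land (Nat.shiftRight A 152) 15) (Nat.land (Nat.shiftRight B 84) 15))) (Nat.mul (Nat.land (Nat.shiftRight A 156) 15) (Nat.land (Nat.shiftRight B 112) 15))) (Nat.mul (Nat.land (Nat.shiftRight A 160) 15) (Nat.land (Nat.shiftRight B 140) 15))) (Nat.mul (Nat.land (Nat.shiftRight A 164) 15) (Nat.land (Nat.shiftRight B 168) 15))) 3)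
    (Nat.mul 16 (Nat.add (Nat.mod (Nat.add (Nat.add (Nat.add (Nat.add (Nat.add (Nat.add (Nat.mul (Nat.land (Nat.shiftRight A 140) 15) (Nat.land (Nat.shiftRight B 4) 15)) (Nat.mul (Nat.land (Nat.shiftRight A 144) 15) (Nat.land (Nat.shiftRight B 32) 15))) (Nat.mul (Nat.land (Nat.shiftRight A 148) 15) (Nat.land (Nat.shiftRight B 60) 15))) (Nat.mul (Nat.land (Nat.shiftRight A 152) 15) (Nat.land (Nat.shiftRight B 88) 15))) (Nat.mul (Nat.land (Nat.shiftRight A 156) 15) (Nat.land (Nat.shiftRight B 116) 15))) (Nat.mul (Nat.land (Nat.shiftRight A 160) 15) (Nat.land (Nat.shiftRight B 144) 15))) (Nat.mul (Nat.land (Nat.shiftRight A 164) 15) (Nat.land (Nat.shiftRight B 172) 15))) 3)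
    (Nat.mul 16 (Nat.add (Nat.mod (Nat.add (Nat.add (Nat.add (Nat.add (Nat.add (Nat.add (Nat.mul (Nat.land (Nat.shiftRight A 140) 15) (Nat.land (Nat.shiftRight B 8) 15)) (Nat.mul (Nat.land (Nat.shiftRight A 144) 15) (Nat.land (Nat.shiftRight B 36) 15))) (Nat.mul (Nat.land (Nat.shiftRight A 148) 15) (Nat.land (Nat.shiftRight B 64) 15))) (Nat.mul (Nat.land (Nat.shiftRight A 152) 15) (Nat.land (Nat.shiftRight B 92) 15))) (Nat.mul (Nat.land (Nat.shiftRight A 156) 15) (Nat.land (Nat.shiftRight B 120) 15))) (Nat.mul (Nat.land (Nat.shiftRight A 160) 15) (Nat.land (Nat.shiftRight B 148) 15))) (Nat.mul (Nat.land (Nat.shiftRight A 164) 15) (Nat.land (Nat.shiftRight B 176) 15))) 3)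
    (Nat.mul 16 (Nat.add (Nat.mod (Nat.add (Nat.add (Nat.add (Nat.add (Nat.add (Nat.add (Nat.mul (Nat.land (Nat.shiftRight A 140) 15) (Nat.land (Nat.shiftRight B 12) 15)) (Nat.mul (Nat.land (Nat.shiftRight A 144) 15) (Nat.land (Nat.shiftRight B 40) 15))) (Nat.mul (Nat.land (Nat.shiftRight A 148) 15) (Nat.land (Nat.shiftRight B 68) 15))) (Nat.mul (Nat.land (Nat.shiftRight A 152) 15) (Nat.land (Nat.shiftRight B 96) 15))) (Nat.mul (Nat.land (Nat.shiftRight A 156) 15) (Nat.land (Nat.shiftRight B 124) 15))) (Nat.mul (Nat.land (Nat.shiftRight A 160) 15) (Nat.land (Nat.shiftRight B 152) 15))) (Nat.mul (Nat.land (Nat.shiftRight A 164) 15) (Nat.land (Nat.shiftRight B 180) 15))) 3)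
    (Nat.mul 16 (Nat.add (Nat.mod (Nat.add (Nat.add (Nat.add (Nat.add (Nat.add (Nat.add (Nat.mul (Nat.land (Nat.shiftRight A 140) 15) (Nat.land (Nat.shiftRight B 16) 15)) (Nat.mul (Nat.land (Nat.shiftRight A 144) 15) (Nat.land (Nat.shiftRight B 44) 15))) (Nat.mul (Nat.land (Nat.shiftRight A 148) 15) (Nat.land (Nat.shiftRight B 72) 15))) (Nat.mul (Nat.land (Nat.shiftRight A 152) 15) (Nat.land (Nat.shiftRight B 100) 15))) (Nat.mul (Nat.land (Nat.shiftRight A 156) 15) (Nat.land (Nat.shiftRight B 128) 15))) (Nat.mul (Nat.land (Nat.shiftRight A 160) 15) (Nat.land (Nat.shiftRight B 156) 15))) (Nat.mul (Nat.land (Nat.shiftRight A 164) 15) (Nat.land (Nat.shiftRight B 184) 15))) 3)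
    (Nat.mul 16 (Nat.add (Nat.mod (Nat.add (Nat.add (Nat.add (Nat.add (Nat.add (Nat.add (Nat.mul (Nat.land (Nat.shiftRight A 140) 15) (Nat.land (Nat.shiftRight B 20) 15)) (Nat.mul (Nat.land (Nat.shiftRight A 144) 15) (Nat.land (Nat.shiftRight B 48) 15))) (Nat.mul (Nat.land (Nat.shiftRight A 148) 15) (Nat.land (Nat.shiftRight B 76) 15))) (Nat.mul (Nat.land (Nat.shiftRight A 152) 15) (Nat.land (Nat.shiftRight B 104) 15))) (Nat.mul (Nat.land (Nat.shiftRight A 156) 15) (Nat.land (Nat.shiftRight B 132) 15))) (Nat.mul (Nat.land (Nat.shiftRight A 160) 15) (Nat.land (Nat.shiftRight B 160) 15))) (Nat.mul (Nat.land (Nat.shiftRight A 164) 15) (Nat.land (Nat.shiftRight B 188) 15))) 3)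
    (Nat.mul 16 (Nat.add (Nat.mod (Nat.add (Nat.add (Nat.add (Nat.add (Nat.add (Nat.add (Nat.mul (Nat.land (Nat.shiftRight A 140) 15) (Nat.land (Nat.shiftRight B 24) 15)) (Nat.mul (Nat.land (Nat.shiftRight A 144) 15) (Nat.land (Nat.shiftRight B 52) 15))) (Nat.mul (Nat.land (Nat.shiftRight A 148) 15) (Nat.land (Nat.shiftRight B 80) 15))) (Nat.mul (Nat.land (Nat.shiftRight A 152) 15) (Nat.land (Nat.shiftRight B 108) 15))) (Nat.mul (Nat.land (Nat.shiftRight A 156) 15) (Nat.land (Nat.shiftRight B 136) 15))) (Nat.mul (Nat.land (Nat.shiftRight A 160) 15) (Nat.land (Nat.shiftRight B 164) 15))) (Nat.mul (Nat.land (Nat.shiftRight A 164) 15) (Nat.land (Nat.shiftRight B 192) 15))) 3)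
    (Nat.mul 16 (Nat.add (Nat.mod (Nat.add (Nat.add (Nat.add (Nat.add (Nat.add (Nat.add (Nat.mul (Nat.land (Nat.shiftRight A 168) 15) (Nat.land (Nat.shiftRight B 0) 15)) (Nat.mul (Nat.land (Nat.shiftRight A 172) 15) (Nat.land (Nat.shiftRight B 28) 15))) (Nat.mul (Nat.land (Nat.shiftRight A 176) 15) (Nat.land (Nat.shiftRight B 56) 15))) (Nat.mul (Nat.land (Nat.shiftRight A 180) 15) (Nat.land (Nat.shiftRight B 84) 15))) (Nat.mul (Nat.land (Nat.shiftRight A 184) 15) (Nat.land (Nat.shiftRight B 112) 15))) (Nat.mul (Nat.land (Nat.shiftRight A 188) 15) (Nat.land (Nat.shiftRight B 140) 15))) (Nat.mul (Nat.land (Nat.shiftRight A 192) 15) (Nat.land (Nat.shiftRight B 168) 15))) 3)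
    (Nat.mul 16 (Nat.add (Nat.mod (Nat.add (Nat.add (Nat.add (Nat.add (Nat.add (Nat.add (Nat.mul (Nat.land (Nat.shiftRight A 168) 15) (Nat.land (Nat.shiftRight B 4) 15)) (Nat.mul (Nat.land (Nat.shiftRight A 172) 15) (Nat.land (Nat.shiftRight B 32) 15))) (Nat.mul (Nat.land (Nat.shiftRight A 176) 15) (Nat.land (Nat.shiftRight B 60) 15))) (Nat.mul (Nat.land (Nat.shiftRight A 180) 15) (Nat.land (Nat.shiftRight B 88) 15))) (Nat.mul (Nat.land (Nat.shiftRight A 184) 15) (Nat.land (Nat.shiftRight B 116) 15))) (Nat.mul (Nat.land (Nat.shiftRight A 188) 15) (Nat.land (Nat.shiftRight B 144) 15))) (Nat.mul (Nat.land (Nat.shiftRight A 192) 15) (Nat.land (Nat.shiftRight B 172) 15))) 3)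
    (Nat.mul 16 (Nat.add (Nat.mod (Nat.add (Nat.add (Nat.add (Nat.add (Nat.add (Nat.add (Nat.mul (Nat.land (Nat.shiftRight A 168) 15) (Nat.land (Nat.shiftRight B 8) 15)) (Nat.mul (Nat.land (Nat.shiftRight A 172) 15) (Nat.land (Nat.shiftRight B 36) 15))) (Nat.mul (Nat.land (Nat.shiftRight A 176) 15) (Nat.land (Nat.shiftRight B 64) 15))) (Nat.mul (Nat.land (Nat.shiftRight A 180) 15) (Nat.land (Nat.shiftRight B 92) 15))) (Nat.mul (Nat.land (Nat.shiftRight A 184) 15) (Nat.land (Nat.shiftRight B 120) 15))) (Nat.mul (Nat.land (Nat.shiftRight A 188) 15) (Nat.land (Nat.shiftRight B 148) 15))) (Nat.mul (Nat.land (Nat.shiftRight A 192) 15) (Nat.land (Nat.shiftRight B 176) 15))) 3)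
    (Nat.mul 16 (Nat.add (Nat.mod (Nat.add (Nat.add (Nat.add (Nat.add (Nat.add (Nat.add (Nat.mul (Nat.land (Nat.shiftRight A 168) 15) (Nat.land (Nat.shiftRight B 12) 15)) (Nat.mul (Nat.land (Nat.shiftRight A 172) 15) (Nat.land (Nat.shiftRight B 40) 15))) (Nat.mul (Nat.land (Nat.shiftRight A 176) 15) (Nat.land (Nat.shiftRight B 68) 15))) (Nat.mul (Nat.land (Nat.shiftRight A 180) 15) (Nat.land (Nat.shiftRight B 96) 15))) (Nat.mul (Nat.land (Nat.shiftRight A 184) 15) (Nat.land (Nat.shiftRight B 124) 15))) (Nat.mul (Nat.land (Nat.shiftRight A 188) 15) (Nat.land (Nat.shiftRight B 152) 15))) (Nat.mul (Nat.land (Nat.shiftRight A 192) 15) (Nat.land (Nat.shiftRight B 180) 15))) 3)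
    (Nat.mul 16 (Nat.add (Nat.mod (Nat.add (Nat.add (Nat.add (Nat.add (Nat.add (Nat.add (Nat.mul (Nat.land (Nat.shiftRight A 168) 15) (Nat.land (Nat.shiftRight B 16) 15)) (Nat.mul (Nat.land (Nat.shiftRight A 172) 15) (Nat.land (Nat.shiftRight B 44) 15))) (Nat.mul (Nat.land (Nat.shiftRight A 176) 15) (Nat.land (Nat.shiftRight B 72) 15))) (Nat.mul (Nat.land (Nat.shiftRight A 180) 15) (Nat.land (Nat.shiftRight B 100) 15))) (Nat.mul (Nat.land (Nat.shiftRight A 184) 15) (Nat.land (Nat.shiftRight B 128) 15))) (Nat.mul (Nat.land (Nat.shiftRight A 188) 15) (Nat.land (Nat.shiftRight B 156) 15))) (Nat.mul (Nat.land (Nat.shiftRight A 192) 15) (Nat.land (Nat.shiftRight B 184) 15))) 3)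
    (Nat.mul 16 (Nat.add (Nat.mod (Nat.add (Nat.add (Nat.add (Nat.add (Nat.add (Nat.add (Nat.mul (Nat.land (Nat.shiftRight A 168) 15) (Nat.land (Nat.shiftRight B 20) 15)) (Nat.mul (Nat.land (Nat.shiftRight A 172) 15) (Nat.land (Nat.shiftRight B 48) 15))) (Nat.mul (Nat.land (Nat.shiftRight A 176) 15) (Nat.land (Nat.shiftRight B 76) 15))) (Nat.mul (Nat.land (Nat.shiftRight A 180) 15) (Nat.land (Nat.shiftRight B 104) 15))) (Nat.mul (Nat.land (Nat.shiftRight A 184) 15) (Nat.land (Nat.shiftRight B 132) 15))) (Nat.mul (Nat.land (Nat.shiftRight A 188) 15) (Nat.land (Nat.shiftRight B 160) 15))) (Nat.mul (Nat.land (Nat.shiftRight A 192) 15) (Nat.land (Nat.shiftRight B 188) 15))) 3)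
    (Nat.mul 16 (Nat.add (Nat.mod (Nat.add (Nat.add (Nat.add (Nat.add (Nat.add (Nat.add (Nat.mul (Nat.land (Nat.shiftRight A 168) 15) (Nat.land (Nat.shiftRight B 24) 15)) (Nat.mul (Nat.land (Nat.shiftRight A 172) 15) (Nat.land (Nat.shiftRight B 52) 15))) (Nat.mul (Nat.land (Nat.shiftRight A 176) 15) (Nat.land (Nat.shiftRight B 80) 15))) (Nat.mul (Nat.land (Nat.shiftRight A 180) 15) (Nat.land (Nat.shiftRight B 108) 15))) (Nat.mul (Nat.land (Nat.shiftRight A 184) 15) (Nat.land (Nat.shiftRight B 136) 15))) (Nat.mul (Nat.land (Nat.shiftRight A 188) 15) (Nat.land (Nat.shiftRight B 164) 15))) (Nat.mul (Nat.land (Nat.shiftRight A 192) 15) (Nat.land (Nat.shiftRight B 192) 15))) 3)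
    (Nat.mul 16 (0))))))))))))))))))))))))))))))))))))))))))))))))))))))))))))))))))))))))))))))))))))))))))))))))))

set_option maxHeartbeats 4000000 in
theorem mulU_eq (A B : ℕ) : mulU A B = mulCode A B := rfl

/-- the transpose of a code, unrolled (generated by a script) -/
def trU (A : ℕ) : ℕ :=
  Nat.add (Nat.mod (Nat.land (Nat.shiftRight A 0) 15) 3)
    (Nat.mul 16 (Nat.add (Nat.mod (Nat.land (Nat.shiftRight A 28) 15) 3)
    (Nat.mul 16 (Nat.add (Nat.mod (Nat.land (Nat.shiftRight A 56) 15) 3)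
    (Nat.mul 16 (Nat.add (Nat.mod (Nat.land (Nat.shiftRight A 84) 15) 3)
    (Nat.mul 16 (Nat.add (Nat.mod (Nat.land (Nat.shiftRight A 112) 15) 3)
    (Nat.mul 16 (Nat.add (Nat.mod (Nat.land (Nat.shiftRight A 140) 15) 3)
    (Nat.mul 16 (Nat.add (Nat.mod (Nat.land (Nat.shiftRight A 168) 15) 3)
    (Nat.mul 16 (Nat.add (Nat.mod (Nat.land (Nat.shiftRight A 4) 15) 3)
    (Nat.mul 16 (Nat.add (Nat.mod (Nat.land (Nat.shiftRight A 32) 15) 3)
    (Nat.mul 16 (Nat.add (Nat.mod (Nat.land (Nat.shiftRight A 60) 15) 3)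
    (Nat.mul 16 (Nat.add (Nat.mod (Nat.land (Nat.shiftRight A 88) 15) 3)
    (Nat.mul 16 (Nat.add (Nat.mod (Nat.land (Nat.shiftRight A 116) 15) 3)
    (Nat.mul 16 (Nat.add (Nat.mod (Nat.land (Nat.shiftRight A 144) 15) 3)
    (Nat.mul 16 (Nat.add (Nat.mod (Nat.land (Nat.shiftRight A 172) 15) 3)
    (Nat.mul 16 (Nat.add (Nat.mod (Nat.land (Nat.shiftRight A 8) 15) 3)
    (Nat.mul 16 (Nat.add (Nat.mod (Nat.land (Nat.shiftRight A 36) 15) 3)
    (Nat.mul 16 (Nat.add (Nat.mod (Nat.land (Nat.shiftRight A 64) 15) 3)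
    (Nat.mul 16 (Nat.add (Nat.mod (Nat.land (Nat.shiftRight A 92) 15) 3)
    (Nat.mul 16 (Nat.add (Nat.mod (Nat.land (Nat.shiftRight A 120) 15) 3)
    (Nat.mul 16 (Nat.add (Nat.mod (Nat.land (Nat.shiftRight A 148) 15) 3)
    (Nat.mul 16 (Nat.add (Nat.mod (Nat.land (Nat.shiftRight A 176) 15) 3)
    (Nat.mul 16 (Nat.add (Nat.mod (Nat.land (Nat.shiftRight A 12) 15) 3)
    (Nat.mul 16 (Nat.add (Nat.mod (Nat.land (Nat.shiftRight A 40) 15) 3)
    (Nat.mul 16 (Nat.add (Nat.mod (Nat.land (Nat.shiftRight A 68) 15) 3)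
    (Nat.mul 16 (Nat.add (Nat.mod (Nat.land (Nat.shiftRight A 96) 15) 3)
    (Nat.mul 16 (Nat.add (Nat.mod (Nat.land (Nat.shiftRight A 124) 15) 3)
    (Nat.mul 16 (Nat.add (Nat.mod (Nat.land (Nat.shiftRight A 152) 15) 3)
    (Nat.mul 16 (Nat.add (Nat.mod (Nat.land (Nat.shiftRight A 180) 15) 3)
    (Nat.mul 16 (Nat.add (Nat.mod (Nat.land (Nat.shiftRight A 16) 15) 3)
    (Nat.mul 16 (Nat.add (Nat.mod (Nat.land (Nat.shiftRight A 44) 15) 3)
    (Nat.mul 16 (Nat.add (Nat.mod (Nat.land (Nat.shiftRight A 72) 15) 3)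
    (Nat.mul 16 (Nat.add (Nat.mod (Nat.land (Nat.shiftRight A 100) 15) 3)
    (Nat.mul 16 (Nat.add (Nat.mod (Nat.land (Nat.shiftRight A 128) 15) 3)
    (Nat.mul 16 (Nat.add (Nat.mod (Nat.land (Nat.shiftRight A 156) 15) 3)
    (Nat.mul 16 (Nat.add (Nat.mod (Nat.land (Nat.shiftRight A 184) 15) 3)
    (Nat.mul 16 (Nat.add (Nat.mod (Nat.land (Nat.shiftRight A 20) 15) 3)
    (Nat.mul 16 (Nat.add (Nat.mod (Nat.land (Nat.shiftRight A 48) 15) 3)
    (Nat.mul 16 (Nat.add (Nat.mod (Nat.land (Nat.shiftRight A 76) 15) 3)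
    (Nat.mul 16 (Nat.add (Nat.mod (Nat.land (Nat.shiftRight A 104) 15) 3)
    (Nat.mul 16 (Nat.add (Nat.mod (Nat.land (Nat.shiftRight A 132) 15) 3)
    (Nat.mul 16 (Nat.add (Nat.mod (Nat.land (Nat.shiftRight A 160) 15) 3)
    (Nat.mul 16 (Nat.add (Nat.mod (Nat.land (Nat.shiftRight A 188) 15) 3)
    (Nat.mul 16 (Nat.add (Nat.mod (Nat.land (Nat.shiftRight A 24) 15) 3)
    (Nat.mul 16 (Nat.add (Nat.mod (Nat.land (Nat.shiftRight A 52) 15) 3)
    (Nat.mul 16 (Nat.add (Nat.mod (Nat.land (Nat.shiftRight A 80) 15) 3)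
    (Nat.mul 16 (Nat.add (Nat.mod (Nat.land (Nat.shiftRight A 108) 15) 3)
    (Nat.mul 16 (Nat.add (Nat.mod (Nat.land (Nat.shiftRight A 136) 15) 3)
    (Nat.mul 16 (Nat.add (Nat.mod (Nat.land (Nat.shiftRight A 164) 15) 3)
    (Nat.mul 16 (Nat.add (Nat.mod (Nat.land (Nat.shiftRight A 192) 15) 3)
    (Nat.mul 16 (0))))))))))))))))))))))))))))))))))))))))))))))))))))))))))))))))))))))))))))))))))))))))))))))))))

set_option maxHeartbeats 4000000 in
theorem trU_eq (A : ℕ) : trU A = trCode A := rfl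

/-- the Boolean check of `Aᵀ J A = J`, unrolled -/
def gramU (A : ℕ) : Bool := mulU (mulU (trU A) Jcode) A == Jcode

theorem gramU_eq (A : ℕ) : gramU A = gramOK A := by
  unfold gramU gramOK
  rw [mulU_eq, mulU_eq, trU_eq]

/-- the Boolean check of `A³ = 1`, unrolled -/
def cubeU (A : ℕ) : Bool := mulU (mulU A A) A == idCode

theorem cubeU_eq (A : ℕ) : cubeU A = cubeOK A := by
  unfold cubeU cubeOK
  rw [mulU_eq, mulU_eq]

/-- an isometry of order dividing three, unrolled -/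
def triU (A : ℕ) : Bool := gramU A && cubeU A

theorem triU_eq (A : ℕ) : triU A = triOK A := by
  unfold triU triOK
  rw [gramU_eq, cubeU_eq]

/-- field `k` of width `w` -/
def fld (D w k : ℕ) : ℕ := (D >>> (w * k)) &&& (2 ^ w - 1)

/-- the number of elements of the Sylow `3`-subgroup -/
def nT : ℕ := 19683

/-- `f (lo + i)` holds for all `i < len` -/
def allFrom (lo len : ℕ) (f : ℕ → Bool) : Bool := allBelow len fun i => f (lo + i)

theorem allFrom_eq_true {lo len : ℕ} {f : ℕ → Bool} (h : allFrom lo len f = true) :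
    ∀ c, lo ≤ c → c < lo + len → f c = true := by
  intro c h1 h2
  have h3 := allBelow_eq_true.1 h (c - lo) (by omega)
  have h4 : lo + (c - lo) = c := by omega
  rw [h4] at h3
  exact h3

/-! ### the table

The table of the Sylow `3`-subgroup is a function `tb : ℕ → ℕ`. -/

/-- entry `c` of the table is smaller than the next entry -/
def sortOK (tb : ℕ → ℕ) (c : ℕ) : Bool :=
  c + 1 == nT || Nat.blt (tb c) (tb (c + 1))

/-- left multiplication by the generator with code `g` maps entry `c` to entry `fld N 15 c` -/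
def nxtOK (tb : ℕ → ℕ) (N g c : ℕ) : Bool :=
  withNat (tb c) fun t => withNat (fld N 15 c) fun d =>
    Nat.blt d nT && (mulU g t == tb d)

/-- the parent in the spanning tree -/
def sylPar (S c : ℕ) : ℕ := fld S 24 c &&& 32767

/-- the depth in the spanning tree -/
def sylDep (S c : ℕ) : ℕ := (fld S 24 c >>> 15) &&& 31

/-- the generator in the spanning tree -/
def sylGen (S c : ℕ) : ℕ := fld S 24 c >>> 20

/-- entry `c` is the image of its parent, of smaller depth, under a generator -/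
def sylOK (N0 N1 N2 S c : ℕ) : Bool :=
  c == 0 || withNat (sylPar S c) fun q =>
    Nat.blt q nT && Nat.blt (sylDep S q) (sylDep S c) &&
      ((sylGen S c == 0 && fld N0 15 q == c) || (sylGen S c == 1 && fld N1 15 q == c)
        || (sylGen S c == 2 && fld N2 15 q == c))

/-! ### the conjugation tree -/

/-- the target in the conjugation tree -/
def cjTgt (C c : ℕ) : ℕ := fld C 32 c &&& 32767

/-- the depth in the conjugation tree -/
def cjDep (C c : ℕ) : ℕ := (fld C 32 c >>> 15) &&& 31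

/-- the mover in the conjugation tree -/
def cjMov (C c : ℕ) : ℕ := (fld C 32 c >>> 20) &&& 31

/-- the kind of step in the conjugation tree -/
def cjKind (C c : ℕ) : ℕ := fld C 32 c >>> 25

/-- the indices of the seven representatives -/
def rootIdx (i : ℕ) : ℕ :=
  match i with
  | 0 => 82
  | 1 => 83
  | 2 => 1
  | 3 => 3
  | 4 => 732
  | 5 => 810
  | _ => 975

/-- the step of the conjugation tree at entry `c` -/
def cjOK (tb : ℕ → ℕ) (C M c : ℕ) : Bool :=
  withNat (tb c) fun t =>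
    (cjKind C c == 0 && (c == 0 || neOne (mulU (mulU t t) t)))
    || (cjKind C c == 1 && Nat.blt (cjMov C c) 7 && c == rootIdx (cjMov C c))
    || (cjKind C c == 2 && Nat.blt (cjTgt C c) nT && Nat.blt (cjDep C (cjTgt C c)) (cjDep C c)
        && Nat.blt (cjMov C c) 24
        && withNat (tab M (4 * cjMov C c)) fun m => withNat (tb (cjTgt C c)) fun t' =>
          mulU m t == mulU t' m)
    || (cjKind C c == 3 && Nat.blt (cjTgt C c) nT && Nat.blt (cjDep C (cjTgt C c)) (cjDep C c)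
        && mulU t t == tb (cjTgt C c))

/-- entry `m` of a list of products of three isometries of order dividing three -/
def facOK (M m : ℕ) : Bool :=
  withNat (tab M (4 * m + 1)) fun f1 => withNat (tab M (4 * m + 2)) fun f2 =>
    withNat (tab M (4 * m + 3)) fun f3 =>
      triU f1 && triU f2 && triU f3 && mulU (mulU f1 f2) f3 == tab M (4 * m)

/-! ### the twins -/

/-- entry `i` of the list of isometries mapping the line to pairwise distinct lines -/
def lineOK (G i : ℕ) : Bool :=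
  withNat (tab G i) fun g => withNat (tab G (i + 1)) fun g' =>
    gramU g && (i + 1 == 364 || Nat.blt (lineKey g 1) (lineKey g' 1))

/-- column `j` of the matrix with code `A` is `s` times the basis vector `j` -/
def colIs (A j s : ℕ) : Bool :=
  (List.range 7).all fun i => ent A i j % 3 == (if i = j then s else 0)

/-- a key of the cyclic group generated by an element of order three with code `D` in normal
form -/
def pairKey (D : ℕ) : ℕ := min D (mulU D D)

/-- entry `j` of the list of `720` conjugates of `a` under the stabiliser of the line -/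
def conjOK (H a j : ℕ) : Bool :=
  withNat (tab H (2 * j)) fun h => withNat (tab H (2 * j + 1)) fun d =>
    withNat (tab H (2 * (j + 1) + 1)) fun d' =>
      gramU h && (colIs h 1 1 || colIs h 1 2) && (mulU h a == mulU d h)
        && (mulU d idCode == d) && (j + 1 == 720 || Nat.blt (pairKey d) (pairKey d'))

/-- entry `k` of the list of the elements of the table normalising `⟨a⟩` -/
def npOK (tb : ℕ → ℕ) (P a k : ℕ) : Bool :=
  withNat (fld P 16 k &&& 32767) fun c => withNat (tb c) fun t =>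
    Nat.blt c nT && (k + 1 == 2187 || Nat.blt c (fld P 16 (k + 1) &&& 32767))
      && ((fld P 16 k >>> 15 == 0 && mulU t a == mulU a t)
        || (fld P 16 k >>> 15 == 1 && mulU t a == mulU (mulU a a) t))

/-- entry `i` of the `2`-subgroup: normal form, increasing, normalising `⟨a⟩` -/
def s2OK (S Nr a i : ℕ) : Bool :=
  withNat (tab S (4 * i)) fun s =>
    (mulU s idCode == s) && (i + 1 == 16 || Nat.blt s (tab S (4 * (i + 1))))
      && ((fld Nr 1 i == 0 && mulU s a == mulU a s)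
        || (fld Nr 1 i == 1 && mulU s a == mulU (mulU a a) s))

/-- the product of the entries `i` and `j` of the `2`-subgroup is the entry `fld Mu 4 (16 i + j)` -/
def s2MulOK (S Mu k : ℕ) : Bool :=
  withNat (tab S (4 * (k / 16))) fun x => withNat (tab S (4 * (k % 16))) fun y =>
    mulU x y == tab S (4 * fld Mu 4 k)

end Cfsg.Agent.Helper91.O7
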