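import Cfsg.Agent.Helper91.O7.Checks
import Cfsg.Agent.Helper91.O7.DataT
import Cfsg.Agent.Helper91.O7.DataN
import Cfsg.Agent.Helper91.O7.DataX

/-!
# `Ω₇(3)`: kernel evaluation of the checks (the numbers of fixed vectors of the representatives)
-/

set_option autoImplicit false
set_option maxRecDepth 100000

namespace Cfsg.Agent.Helper91.O7

theorem chkFix_82_1 : withNat (tbl 82) (fun A => countFix A 1) = 0 := by
  decide +kernel

theorem chkFix_82_2 : withNat (tbl 82) (fun A => countFix A 2) = 0 := by
  decide +kernel

theorem chkFix_83_1 : withNat (tbl 83) (fun A => countFix A 1) = 0 := by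
  decide +kernel

theorem chkFix_83_2 : withNat (tbl 83) (fun A => countFix A 2) = 0 := by
  decide +kernel

theorem chkFix_1_1 : withNat (tbl 1) (fun A => countFix A 1) = 72 := by
  decide +kernel

theorem chkFix_1_2 : withNat (tbl 1) (fun A => countFix A 2) = 72 := by
  decide +kernel

theorem chkFix_3_1 : withNat (tbl 3) (fun A => countFix A 1) = 108 := by
  decide +kernel

theorem chkFix_3_2 : withNat (tbl 3) (fun A => countFix A 2) = 54 := by
  decide +kernel

theorem chkFix_732_1 : withNat (tbl 732) (fun A => countFix A 1) = 90 := by
  decide +kernel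

theorem chkFix_732_2 : withNat (tbl 732) (fun A => countFix A 2) = 90 := by
  decide +kernel

theorem chkFix_810_1 : withNat (tbl 810) (fun A => countFix A 1) = 18 := by
  decide +kernel

theorem chkFix_810_2 : withNat (tbl 810) (fun A => countFix A 2) = 0 := by
  decide +kernel

theorem chkFix_975_1 : withNat (tbl 975) (fun A => countFix A 1) = 0 := by
  decide +kernel

theorem chkFix_975_2 : withNat (tbl 975) (fun A => countFix A 2) = 18 := by
  decide +kernel

theorem chkANe : neOne aCode = true := by
  decide +kernel

theorem chkRoots :
    (allBelow 7 fun i => withNat (tbl (rootIdx i)) fun r => cubeU r && neOne r) = true := by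
  decide +kernel

end Cfsg.Agent.Helper91.O7
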