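import Cfsg.Agent.Helper91.O7.Checks
import Cfsg.Agent.Helper91.O7.DataT
import Cfsg.Agent.Helper91.O7.DataN
import Cfsg.Agent.Helper91.O7.DataX

/-!
# `Ω₇(3)`: kernel evaluation of the checks (left multiplication by the generator 0)
-/

set_option autoImplicit false
set_option maxRecDepth 100000

namespace Cfsg.Agent.Helper91.O7

theorem chkNxt0_0 :
    (withNat nxtDat0 (fun N => allFrom 0 2500 (nxtOK tbl N gC0))) = true := by
  decide +kernel

theorem chkNxt0_2500 :
    (withNat nxtDat0 (fun N => allFrom 2500 2500 (nxtOK tbl N gC0))) = true := by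
  decide +kernel

theorem chkNxt0_5000 :
    (withNat nxtDat0 (fun N => allFrom 5000 2500 (nxtOK tbl N gC0))) = true := by
  decide +kernel

theorem chkNxt0_7500 :
    (withNat nxtDat0 (fun N => allFrom 7500 2500 (nxtOK tbl N gC0))) = true := by
  decide +kernel

theorem chkNxt0_10000 :
    (withNat nxtDat0 (fun N => allFrom 10000 2500 (nxtOK tbl N gC0))) = true := by
  decide +kernel

theorem chkNxt0_12500 :
    (withNat nxtDat0 (fun N => allFrom 12500 2500 (nxtOK tbl N gC0))) = true := by
  decide +kernel

theorem chkNxt0_15000 :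
    (withNat nxtDat0 (fun N => allFrom 15000 2500 (nxtOK tbl N gC0))) = true := by
  decide +kernel

theorem chkNxt0_17500 :
    (withNat nxtDat0 (fun N => allFrom 17500 2183 (nxtOK tbl N gC0))) = true := by
  decide +kernel


end Cfsg.Agent.Helper91.O7
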