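import Cfsg.Agent.Helper91.O7.Checks
import Cfsg.Agent.Helper91.O7.DataT
import Cfsg.Agent.Helper91.O7.DataN
import Cfsg.Agent.Helper91.O7.DataX

/-!
# `Ω₇(3)`: kernel evaluation of the checks (the table is increasing; the spanning tree)
-/

set_option autoImplicit false
set_option maxRecDepth 100000

namespace Cfsg.Agent.Helper91.O7

theorem chkSort_0 :
    (allFrom 0 2500 (sortOK tbl)) = true := by
  decide +kernel

theorem chkSort_2500 :
    (allFrom 2500 2500 (sortOK tbl)) = true := by
  decide +kernel

theorem chkSort_5000 :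
    (allFrom 5000 2500 (sortOK tbl)) = true := by
  decide +kernel

theorem chkSort_7500 :
    (allFrom 7500 2500 (sortOK tbl)) = true := by
  decide +kernel

theorem chkSort_10000 :
    (allFrom 10000 2500 (sortOK tbl)) = true := by
  decide +kernel

theorem chkSort_12500 :
    (allFrom 12500 2500 (sortOK tbl)) = true := by
  decide +kernel

theorem chkSort_15000 :
    (allFrom 15000 2500 (sortOK tbl)) = true := by
  decide +kernel

theorem chkSort_17500 :
    (allFrom 17500 2183 (sortOK tbl)) = true := by
  decide +kernel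

theorem chkSyl_0 :
    (withNat nxtDat0 (fun N0 => withNat nxtDat1 (fun N1 => withNat nxtDat2 (fun N2 => withNat sylDat (fun S => allFrom 0 2500 (sylOK N0 N1 N2 S)))))) = true := by
  decide +kernel

theorem chkSyl_2500 :
    (withNat nxtDat0 (fun N0 => withNat nxtDat1 (fun N1 => withNat nxtDat2 (fun N2 => withNat sylDat (fun S => allFrom 2500 2500 (sylOK N0 N1 N2 S)))))) = true := by
  decide +kernel

theorem chkSyl_5000 :
    (withNat nxtDat0 (fun N0 => withNat nxtDat1 (fun N1 => withNat nxtDat2 (fun N2 => withNat sylDat (fun S => allFrom 5000 2500 (sylOK N0 N1 N2 S)))))) = true := by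
  decide +kernel

theorem chkSyl_7500 :
    (withNat nxtDat0 (fun N0 => withNat nxtDat1 (fun N1 => withNat nxtDat2 (fun N2 => withNat sylDat (fun S => allFrom 7500 2500 (sylOK N0 N1 N2 S)))))) = true := by
  decide +kernel

theorem chkSyl_10000 :
    (withNat nxtDat0 (fun N0 => withNat nxtDat1 (fun N1 => withNat nxtDat2 (fun N2 => withNat sylDat (fun S => allFrom 10000 2500 (sylOK N0 N1 N2 S)))))) = true := by
  decide +kernel

theorem chkSyl_12500 :
    (withNat nxtDat0 (fun N0 => withNat nxtDat1 (fun N1 => withNat nxtDat2 (fun N2 => withNat sylDat (fun S => allFrom 12500 2500 (sylOK N0 N1 N2 S)))))) = true := by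
  decide +kernel

theorem chkSyl_15000 :
    (withNat nxtDat0 (fun N0 => withNat nxtDat1 (fun N1 => withNat nxtDat2 (fun N2 => withNat sylDat (fun S => allFrom 15000 2500 (sylOK N0 N1 N2 S)))))) = true := by
  decide +kernel

theorem chkSyl_17500 :
    (withNat nxtDat0 (fun N0 => withNat nxtDat1 (fun N1 => withNat nxtDat2 (fun N2 => withNat sylDat (fun S => allFrom 17500 2183 (sylOK N0 N1 N2 S)))))) = true := by
  decide +kernel

theorem chkT0 :
    (tbl 0 == idCode) = true := by
  decide +kernel

theorem chkA :
    (tbl 82 == aCode) = true := by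
  decide +kernel


end Cfsg.Agent.Helper91.O7
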