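import Cfsg.Agent.Helper91.O7.Checks
import Cfsg.Agent.Helper91.O7.DataT
import Cfsg.Agent.Helper91.O7.DataN
import Cfsg.Agent.Helper91.O7.DataX

/-!
# `Ω₇(3)`: kernel evaluation of the checks (movers, lines, normaliser)
-/

set_option autoImplicit false
set_option maxRecDepth 100000

namespace Cfsg.Agent.Helper91.O7

theorem chkMov :
    (withNat movDat (fun M => allFrom 0 24 (facOK M))) = true := by
  decide +kernel

theorem chkGens :
    (triU gC0 && triU gC1 && triU gC2) = true := by
  decide +kernel

theorem chkLine :
    (withNat g364 (fun G => allFrom 0 364 (lineOK G))) = true := by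
  decide +kernel

theorem chkS2fac :
    (withNat s2Dat (fun S => allFrom 0 16 (facOK S))) = true := by
  decide +kernel

theorem chkS2 :
    (withNat s2Dat (fun S => withNat s2Nrm (fun Nr => allFrom 0 16 (s2OK S Nr aCode)))) = true := by
  decide +kernel

theorem chkS2mul :
    (withNat s2Dat (fun S => withNat s2Mul (fun Mu => allFrom 0 256 (s2MulOK S Mu)))) = true := by
  decide +kernel

theorem chkConj_0 :
    (withNat h720 (fun H => allFrom 0 360 (conjOK H aCode))) = true := by
  decide +kernel

theorem chkConj_360 :
    (withNat h720 (fun H => allFrom 360 360 (conjOK H aCode))) = true := by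
  decide +kernel

theorem chkNp :
    (withNat npDat (fun P => allFrom 0 2187 (npOK tbl P aCode))) = true := by
  decide +kernel


end Cfsg.Agent.Helper91.O7
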