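import Cfsg.Agent.Helper91.O7.ChkCj0
import Cfsg.Agent.Helper91.O7.ChkCj1
import Cfsg.Agent.Helper91.O7.ChkFix
import Cfsg.Agent.Helper91.O7.ChkNxt0
import Cfsg.Agent.Helper91.O7.ChkNxt1
import Cfsg.Agent.Helper91.O7.ChkNxt2
import Cfsg.Agent.Helper91.O7.ChkSyl
import Cfsg.Agent.Helper91.O7.ChkX

/-!
# `Ω₇(3)`: the checks, for all indices

The chunks evaluated by the kernel, combined.  Generated by a script.
-/

set_option autoImplicit false

namespace Cfsg.Agent.Helper91.O7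

theorem nxtOK_all0 : ∀ c, c < 19683 → nxtOK tbl nxtDat0 gC0 c = true := by
  intro c hc
  have h0 := chkNxt0_0
  rw [withNat_eq] at h0
  have h2500 := chkNxt0_2500
  rw [withNat_eq] at h2500
  have h5000 := chkNxt0_5000
  rw [withNat_eq] at h5000
  have h7500 := chkNxt0_7500
  rw [withNat_eq] at h7500
  have h10000 := chkNxt0_10000
  rw [withNat_eq] at h10000
  have h12500 := chkNxt0_12500
  rw [withNat_eq] at h12500
  have h15000 := chkNxt0_15000
  rw [withNat_eq] at h15000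
  have h17500 := chkNxt0_17500
  rw [withNat_eq] at h17500
  rcases (by omega : (0 ≤ c ∧ c < 2500) ∨ (2500 ≤ c ∧ c < 5000) ∨ (5000 ≤ c ∧ c < 7500) ∨ (7500 ≤ c ∧ c < 10000) ∨ (10000 ≤ c ∧ c < 12500) ∨ (12500 ≤ c ∧ c < 15000) ∨ (15000 ≤ c ∧ c < 17500) ∨ (17500 ≤ c ∧ c < 19683)) with h | h | h | h | h | h | h | h
  · exact allFrom_eq_true h0 c h.1 h.2
  · exact allFrom_eq_true h2500 c h.1 h.2
  · exact allFrom_eq_true h5000 c h.1 h.2
  · exact allFrom_eq_true h7500 c h.1 h.2
  · exact allFrom_eq_true h10000 c h.1 h.2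
  · exact allFrom_eq_true h12500 c h.1 h.2
  · exact allFrom_eq_true h15000 c h.1 h.2
  · exact allFrom_eq_true h17500 c h.1 h.2

theorem nxtOK_all1 : ∀ c, c < 19683 → nxtOK tbl nxtDat1 gC1 c = true := by
  intro c hc
  have h0 := chkNxt1_0
  rw [withNat_eq] at h0
  have h2500 := chkNxt1_2500
  rw [withNat_eq] at h2500
  have h5000 := chkNxt1_5000
  rw [withNat_eq] at h5000
  have h7500 := chkNxt1_7500
  rw [withNat_eq] at h7500
  have h10000 := chkNxt1_10000
  rw [withNat_eq] at h10000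
  have h12500 := chkNxt1_12500
  rw [withNat_eq] at h12500
  have h15000 := chkNxt1_15000
  rw [withNat_eq] at h15000
  have h17500 := chkNxt1_17500
  rw [withNat_eq] at h17500
  rcases (by omega : (0 ≤ c ∧ c < 2500) ∨ (2500 ≤ c ∧ c < 5000) ∨ (5000 ≤ c ∧ c < 7500) ∨ (7500 ≤ c ∧ c < 10000) ∨ (10000 ≤ c ∧ c < 12500) ∨ (12500 ≤ c ∧ c < 15000) ∨ (15000 ≤ c ∧ c < 17500) ∨ (17500 ≤ c ∧ c < 19683)) with h | h | h | h | h | h | h | h
  · exact allFrom_eq_true h0 c h.1 h.2
  · exact allFrom_eq_true h2500 c h.1 h.2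
  · exact allFrom_eq_true h5000 c h.1 h.2
  · exact allFrom_eq_true h7500 c h.1 h.2
  · exact allFrom_eq_true h10000 c h.1 h.2
  · exact allFrom_eq_true h12500 c h.1 h.2
  · exact allFrom_eq_true h15000 c h.1 h.2
  · exact allFrom_eq_true h17500 c h.1 h.2

theorem nxtOK_all2 : ∀ c, c < 19683 → nxtOK tbl nxtDat2 gC2 c = true := by
  intro c hc
  have h0 := chkNxt2_0
  rw [withNat_eq] at h0
  have h2500 := chkNxt2_2500
  rw [withNat_eq] at h2500
  have h5000 := chkNxt2_5000
  rw [withNat_eq] at h5000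
  have h7500 := chkNxt2_7500
  rw [withNat_eq] at h7500
  have h10000 := chkNxt2_10000
  rw [withNat_eq] at h10000
  have h12500 := chkNxt2_12500
  rw [withNat_eq] at h12500
  have h15000 := chkNxt2_15000
  rw [withNat_eq] at h15000
  have h17500 := chkNxt2_17500
  rw [withNat_eq] at h17500
  rcases (by omega : (0 ≤ c ∧ c < 2500) ∨ (2500 ≤ c ∧ c < 5000) ∨ (5000 ≤ c ∧ c < 7500) ∨ (7500 ≤ c ∧ c < 10000) ∨ (10000 ≤ c ∧ c < 12500) ∨ (12500 ≤ c ∧ c < 15000) ∨ (15000 ≤ c ∧ c < 17500) ∨ (17500 ≤ c ∧ c < 19683)) with h | h | h | h | h | h | h | h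
  · exact allFrom_eq_true h0 c h.1 h.2
  · exact allFrom_eq_true h2500 c h.1 h.2
  · exact allFrom_eq_true h5000 c h.1 h.2
  · exact allFrom_eq_true h7500 c h.1 h.2
  · exact allFrom_eq_true h10000 c h.1 h.2
  · exact allFrom_eq_true h12500 c h.1 h.2
  · exact allFrom_eq_true h15000 c h.1 h.2
  · exact allFrom_eq_true h17500 c h.1 h.2

theorem cjOK_all : ∀ c, c < 19683 → cjOK tbl cjDat movDat c = true := by
  intro c hc
  have h0 := chkCj_0
  rw [withNat_eq, withNat_eq] at h0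
  have h2500 := chkCj_2500
  rw [withNat_eq, withNat_eq] at h2500
  have h5000 := chkCj_5000
  rw [withNat_eq, withNat_eq] at h5000
  have h7500 := chkCj_7500
  rw [withNat_eq, withNat_eq] at h7500
  have h10000 := chkCj_10000
  rw [withNat_eq, withNat_eq] at h10000
  have h12500 := chkCj_12500
  rw [withNat_eq, withNat_eq] at h12500
  have h15000 := chkCj_15000
  rw [withNat_eq, withNat_eq] at h15000
  have h17500 := chkCj_17500
  rw [withNat_eq, withNat_eq] at h17500
  rcases (by omega : (0 ≤ c ∧ c < 2500) ∨ (2500 ≤ c ∧ c < 5000) ∨ (5000 ≤ c ∧ c < 7500) ∨ (7500 ≤ c ∧ c < 10000) ∨ (10000 ≤ c ∧ c < 12500) ∨ (12500 ≤ c ∧ c < 15000) ∨ (15000 ≤ c ∧ c < 17500) ∨ (17500 ≤ c ∧ c < 19683)) with h | h | h | h | h | h | h | h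
  · exact allFrom_eq_true h0 c h.1 h.2
  · exact allFrom_eq_true h2500 c h.1 h.2
  · exact allFrom_eq_true h5000 c h.1 h.2
  · exact allFrom_eq_true h7500 c h.1 h.2
  · exact allFrom_eq_true h10000 c h.1 h.2
  · exact allFrom_eq_true h12500 c h.1 h.2
  · exact allFrom_eq_true h15000 c h.1 h.2
  · exact allFrom_eq_true h17500 c h.1 h.2

theorem conjOK_all : ∀ c, c < 720 → conjOK h720 aCode c = true := by
  intro c hc
  have h0 := chkConj_0
  rw [withNat_eq] at h0
  have h360 := chkConj_360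
  rw [withNat_eq] at h360
  rcases (by omega : (0 ≤ c ∧ c < 360) ∨ (360 ≤ c ∧ c < 720)) with h | h
  · exact allFrom_eq_true h0 c h.1 h.2
  · exact allFrom_eq_true h360 c h.1 h.2

theorem npOK_all : ∀ c, c < 2187 → npOK tbl npDat aCode c = true := by
  intro c hc
  have h := chkNp
  rw [withNat_eq] at h
  exact allFrom_eq_true h c (Nat.zero_le c) (by omega)

theorem sortOK_all : ∀ c, c < 19683 → sortOK tbl c = true := by
  intro c hc
  have h0 := chkSort_0
  have h2500 := chkSort_2500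
  have h5000 := chkSort_5000
  have h7500 := chkSort_7500
  have h10000 := chkSort_10000
  have h12500 := chkSort_12500
  have h15000 := chkSort_15000
  have h17500 := chkSort_17500
  rcases (by omega : (0 ≤ c ∧ c < 2500) ∨ (2500 ≤ c ∧ c < 5000) ∨ (5000 ≤ c ∧ c < 7500) ∨ (7500 ≤ c ∧ c < 10000) ∨ (10000 ≤ c ∧ c < 12500) ∨ (12500 ≤ c ∧ c < 15000) ∨ (15000 ≤ c ∧ c < 17500) ∨ (17500 ≤ c ∧ c < 19683)) with h | h | h | h | h | h | h | h
  · exact allFrom_eq_true h0 c h.1 h.2
  · exact allFrom_eq_true h2500 c h.1 h.2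
  · exact allFrom_eq_true h5000 c h.1 h.2
  · exact allFrom_eq_true h7500 c h.1 h.2
  · exact allFrom_eq_true h10000 c h.1 h.2
  · exact allFrom_eq_true h12500 c h.1 h.2
  · exact allFrom_eq_true h15000 c h.1 h.2
  · exact allFrom_eq_true h17500 c h.1 h.2

theorem sylOK_all : ∀ c, c < 19683 → sylOK nxtDat0 nxtDat1 nxtDat2 sylDat c = true := by
  intro c hc
  have h0 := chkSyl_0
  rw [withNat_eq, withNat_eq, withNat_eq, withNat_eq] at h0
  have h2500 := chkSyl_2500
  rw [withNat_eq, withNat_eq, withNat_eq, withNat_eq] at h2500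
  have h5000 := chkSyl_5000
  rw [withNat_eq, withNat_eq, withNat_eq, withNat_eq] at h5000
  have h7500 := chkSyl_7500
  rw [withNat_eq, withNat_eq, withNat_eq, withNat_eq] at h7500
  have h10000 := chkSyl_10000
  rw [withNat_eq, withNat_eq, withNat_eq, withNat_eq] at h10000
  have h12500 := chkSyl_12500
  rw [withNat_eq, withNat_eq, withNat_eq, withNat_eq] at h12500
  have h15000 := chkSyl_15000
  rw [withNat_eq, withNat_eq, withNat_eq, withNat_eq] at h15000
  have h17500 := chkSyl_17500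
  rw [withNat_eq, withNat_eq, withNat_eq, withNat_eq] at h17500
  rcases (by omega : (0 ≤ c ∧ c < 2500) ∨ (2500 ≤ c ∧ c < 5000) ∨ (5000 ≤ c ∧ c < 7500) ∨ (7500 ≤ c ∧ c < 10000) ∨ (10000 ≤ c ∧ c < 12500) ∨ (12500 ≤ c ∧ c < 15000) ∨ (15000 ≤ c ∧ c < 17500) ∨ (17500 ≤ c ∧ c < 19683)) with h | h | h | h | h | h | h | h
  · exact allFrom_eq_true h0 c h.1 h.2
  · exact allFrom_eq_true h2500 c h.1 h.2
  · exact allFrom_eq_true h5000 c h.1 h.2
  · exact allFrom_eq_true h7500 c h.1 h.2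
  · exact allFrom_eq_true h10000 c h.1 h.2
  · exact allFrom_eq_true h12500 c h.1 h.2
  · exact allFrom_eq_true h15000 c h.1 h.2
  · exact allFrom_eq_true h17500 c h.1 h.2

theorem movOK_all : ∀ c, c < 24 → facOK movDat c = true := by
  intro c hc
  have h := chkMov
  rw [withNat_eq] at h
  exact allFrom_eq_true h c (Nat.zero_le c) (by omega)

theorem lineOK_all : ∀ c, c < 364 → lineOK g364 c = true := by
  intro c hc
  have h := chkLine
  rw [withNat_eq] at h
  exact allFrom_eq_true h c (Nat.zero_le c) (by omega)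

theorem s2facOK_all : ∀ c, c < 16 → facOK s2Dat c = true := by
  intro c hc
  have h := chkS2fac
  rw [withNat_eq] at h
  exact allFrom_eq_true h c (Nat.zero_le c) (by omega)

theorem s2OK_all : ∀ c, c < 16 → s2OK s2Dat s2Nrm aCode c = true := by
  intro c hc
  have h := chkS2
  rw [withNat_eq, withNat_eq] at h
  exact allFrom_eq_true h c (Nat.zero_le c) (by omega)

theorem s2MulOK_all : ∀ c, c < 256 → s2MulOK s2Dat s2Mul c = true := by
  intro c hc
  have h := chkS2mul
  rw [withNat_eq, withNat_eq] at h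
  exact allFrom_eq_true h c (Nat.zero_le c) (by omega)

end Cfsg.Agent.Helper91.O7
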