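import Mathlib

/-!
# Packed `7 × 7` matrices over `ZMod 3`

A matrix is described by a natural number, four bits per entry, row by row.  Products of codes are
evaluated by the kernel; this file relates them to products of matrices.
-/

set_option autoImplicit false

namespace Cfsg.Agent.Helper91.O7

open Matrix

/-- the matrices -/
abbrev M7 : Type := Matrix (Fin 7) (Fin 7) (ZMod 3)

/-- the invertible matrices -/
abbrev U7 : Type := M7ˣ

/-- force the evaluation of a natural number before it is used -/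
def withNat {α : Type} [Inhabited α] (v : ℕ) (f : ℕ → α) : α :=
  match v + 1 with
  | 0 => default
  | n + 1 => f n

theorem withNat_eq {α : Type} [Inhabited α] (v : ℕ) (f : ℕ → α) : withNat v f = f v := rfl

/-- `f i` holds for all `i < n` -/
def allBelow (n : ℕ) (f : ℕ → Bool) : Bool :=
  Nat.rec (motive := fun _ => Bool) true (fun i ih => f i && ih) n

theorem allBelow_succ (n : ℕ) (f : ℕ → Bool) : allBelow (n + 1) f = (f n && allBelow n f) := rfl

theorem allBelow_eq_true {n : ℕ} {f : ℕ → Bool} : allBelow n f = true ↔ ∀ i < n, f i = true := by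
  induction n with
  | zero => simp [allBelow]
  | succ n ih =>
    rw [allBelow_succ, Bool.and_eq_true, ih]
    constructor
    · rintro ⟨h1, h2⟩ i hi
      rcases Nat.lt_succ_iff_lt_or_eq.1 hi with h | rfl
      · exact h2 i h
      · exact h1
    · intro h
      exact ⟨h n (Nat.lt_succ_self n), fun i hi => h i (Nat.lt_succ_of_lt hi)⟩

/-- entry `(i, j)` of a code -/
def ent (A i j : ℕ) : ℕ := (A >>> (28 * i + 4 * j)) &&& 15

/-- the matrix of a code -/
def toMat (A : ℕ) : M7 := fun i j => ((ent A i j : ℕ) : ZMod 3)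

/-- entry `(i, j)` of a product, reduced mod 3 -/
def pe (A B i j : ℕ) : ℕ :=
  (ent A i 0 * ent B 0 j + ent A i 1 * ent B 1 j + ent A i 2 * ent B 2 j + ent A i 3 * ent B 3 j
    + ent A i 4 * ent B 4 j + ent A i 5 * ent B 5 j + ent A i 6 * ent B 6 j) % 3

theorem pe_lt (A B i j : ℕ) : pe A B i j < 3 := Nat.mod_lt _ (by norm_num)

theorem toMat_mul_apply (A B : ℕ) (i j : Fin 7) :
    (toMat A * toMat B) i j = ((pe A B i j : ℕ) : ZMod 3) := by
  simp only [Matrix.mul_apply, Fin.sum_univ_seven, toMat, pe, ZMod.natCast_mod]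
  push_cast
  rfl

/-- base 16 packing of a list of digits -/
def pack : List ℕ → ℕ
  | [] => 0
  | d :: L => d + 16 * pack L

theorem shift_pack (L : List ℕ) (hL : ∀ d ∈ L, d < 16) (k : ℕ) :
    (pack L >>> (4 * k)) &&& 15 = L.getD k 0 := by
  induction L generalizing k with
  | nil => simp [pack]
  | cons d L ih =>
    have hd : d < 16 := hL d (List.mem_cons_self ..)
    have hL' : ∀ e ∈ L, e < 16 := fun e he => hL e (List.mem_cons_of_mem _ he)
    have h15 : (15 : ℕ) = 2 ^ 4 - 1 := by norm_num
    cases k with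
    | zero =>
      simp only [pack, Nat.mul_zero, Nat.shiftRight_zero, List.getD_cons_zero]
      rw [h15, Nat.and_two_pow_sub_one_eq_mod]
      omega
    | succ k =>
      have h0 : (pack (d :: L)) >>> 4 = pack L := by
        rw [Nat.shiftRight_eq_div_pow]
        simp only [pack]
        omega
      have h1 : (pack (d :: L)) >>> (4 * (k + 1)) = (pack L) >>> (4 * k) := by
        rw [show 4 * (k + 1) = 4 + 4 * k by ring, Nat.shiftRight_add, h0]
      rw [h1, List.getD_cons_succ]
      exact ih hL' k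

/-- the code of the product of two packed matrices -/
def mulCode (A B : ℕ) : ℕ := pack ((List.range 49).map fun k => pe A B (k / 7) (k % 7))

theorem ent_mulCode (A B : ℕ) (i j : ℕ) (hi : i < 7) (hj : j < 7) :
    ent (mulCode A B) i j = pe A B i j := by
  have h := shift_pack ((List.range 49).map fun k => pe A B (k / 7) (k % 7)) (by
    intro d hd
    rw [List.mem_map] at hd
    obtain ⟨k, -, rfl⟩ := hd
    exact lt_trans (pe_lt _ _ _ _) (by norm_num)) (7 * i + j)
  have h2 : 28 * i + 4 * j = 4 * (7 * i + j) := by ring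
  rw [ent, mulCode, h2, h]
  have h3 : 7 * i + j < 49 := by omega
  rw [List.getD_eq_getElem _ _ (by simpa using h3)]
  simp only [List.getElem_map, List.getElem_range]
  have h4 : (7 * i + j) / 7 = i := by omega
  have h5 : (7 * i + j) % 7 = j := by omega
  rw [h4, h5]

theorem toMat_mulCode (A B : ℕ) : toMat (mulCode A B) = toMat A * toMat B := by
  ext i j
  rw [toMat_mul_apply]
  show ((ent (mulCode A B) i j : ℕ) : ZMod 3) = _
  rw [ent_mulCode A B i j i.isLt j.isLt]

/-- code of the identity matrix -/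
def idCode : ℕ := 1 + 1 <<< 32 + 1 <<< 64 + 1 <<< 96 + 1 <<< 128 + 1 <<< 160 + 1 <<< 192

theorem toMat_idCode : toMat idCode = 1 := by
  ext i j
  have h : ∀ i j : Fin 7, ent idCode i j = if i = j then 1 else 0 := by decide
  simp only [toMat, h, Matrix.one_apply]
  split <;> simp

/-- the code of the transpose -/
def trCode (A : ℕ) : ℕ := pack ((List.range 49).map fun k => ent A (k % 7) (k / 7) % 3)

theorem ent_trCode (A : ℕ) (i j : ℕ) (hi : i < 7) (hj : j < 7) :
    ent (trCode A) i j = ent A j i % 3 := by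
  have h := shift_pack ((List.range 49).map fun k => ent A (k % 7) (k / 7) % 3) (by
    intro d hd
    rw [List.mem_map] at hd
    obtain ⟨k, -, rfl⟩ := hd
    exact lt_trans (Nat.mod_lt _ (by norm_num)) (by norm_num)) (7 * i + j)
  have h2 : 28 * i + 4 * j = 4 * (7 * i + j) := by ring
  rw [ent, trCode, h2, h]
  have h3 : 7 * i + j < 49 := by omega
  rw [List.getD_eq_getElem _ _ (by simpa using h3)]
  simp only [List.getElem_map, List.getElem_range]
  have h4 : (7 * i + j) / 7 = i := by omega
  have h5 : (7 * i + j) % 7 = j := by omega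
  rw [h4, h5]

theorem toMat_trCode (A : ℕ) : toMat (trCode A) = (toMat A)ᵀ := by
  ext i j
  show ((ent (trCode A) i j : ℕ) : ZMod 3) = ((ent A j i : ℕ) : ZMod 3)
  rw [ent_trCode A i j i.isLt j.isLt, ZMod.natCast_mod]

/-- a witness that the matrix of a code is not the identity -/
def neOne (A : ℕ) : Bool :=
  (List.range 49).any fun k => ent A (k / 7) (k % 7) % 3 != (if k / 7 = k % 7 then 1 else 0)

theorem neOne_spec {A : ℕ} (h : neOne A = true) : toMat A ≠ 1 := by
  rw [neOne, List.any_eq_true] at h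
  obtain ⟨k, hk, h1⟩ := h
  rw [List.mem_range] at hk
  intro e
  have hi : k / 7 < 7 := by omega
  have hj : k % 7 < 7 := by omega
  have h2 := congrFun (congrFun e ⟨k / 7, hi⟩) ⟨k % 7, hj⟩
  rw [Matrix.one_apply] at h2
  have h3 : ((ent A (k / 7) (k % 7) : ℕ) : ZMod 3) = if k / 7 = k % 7 then 1 else 0 := by
    rw [show toMat A ⟨k / 7, hi⟩ ⟨k % 7, hj⟩ = ((ent A (k / 7) (k % 7) : ℕ) : ZMod 3) from rfl] at h2
    rw [h2]
    simp only [Fin.mk.injEq]
  apply (bne_iff_ne.1 h1)
  by_cases hd : k / 7 = k % 7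
  · rw [if_pos hd] at h3 ⊢
    have : ((ent A (k / 7) (k % 7) : ℕ) : ZMod 3) = ((1 : ℕ) : ZMod 3) := by rw [h3]; simp
    rw [ZMod.natCast_eq_natCast_iff'] at this
    exact this
  · rw [if_neg hd] at h3 ⊢
    have : ((ent A (k / 7) (k % 7) : ℕ) : ZMod 3) = ((0 : ℕ) : ZMod 3) := by rw [h3]; simp
    rw [ZMod.natCast_eq_natCast_iff'] at this
    exact this

/-- the matrices of two codes differ -/
def neCode (A B : ℕ) : Bool :=
  (List.range 49).any fun k => ent A (k / 7) (k % 7) % 3 != ent B (k / 7) (k % 7) % 3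

theorem neCode_spec {A B : ℕ} (h : neCode A B = true) : toMat A ≠ toMat B := by
  rw [neCode, List.any_eq_true] at h
  obtain ⟨k, hk, h1⟩ := h
  rw [List.mem_range] at hk
  intro e
  have hi : k / 7 < 7 := by omega
  have hj : k % 7 < 7 := by omega
  have h2 := congrFun (congrFun e ⟨k / 7, hi⟩) ⟨k % 7, hj⟩
  have h3 : ((ent A (k / 7) (k % 7) : ℕ) : ZMod 3) = ((ent B (k / 7) (k % 7) : ℕ) : ZMod 3) := h2
  rw [ZMod.natCast_eq_natCast_iff'] at h3
  exact (bne_iff_ne.1 h1) h3

/-- the normal form of a code: all entries reduced mod 3 -/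
def normCode (A : ℕ) : ℕ := mulCode A idCode

theorem toMat_normCode (A : ℕ) : toMat (normCode A) = toMat A := by
  rw [normCode, toMat_mulCode, toMat_idCode, mul_one]

theorem normCode_congr {A B : ℕ} (h : toMat A = toMat B) : normCode A = normCode B := by
  have key : ∀ i j : ℕ, i < 7 → j < 7 → pe A idCode i j = pe B idCode i j := by
    intro i j hi hj
    have h1 := congrFun (congrFun (congrArg (· * toMat idCode) h) ⟨i, hi⟩) ⟨j, hj⟩
    simp only [toMat_mul_apply] at h1
    rw [ZMod.natCast_eq_natCast_iff'] at h1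
    rwa [Nat.mod_eq_of_lt (pe_lt _ _ _ _), Nat.mod_eq_of_lt (pe_lt _ _ _ _)] at h1
  unfold normCode mulCode
  congr 1
  apply List.map_congr_left
  intro k hk
  rw [List.mem_range] at hk
  exact key _ _ (by omega) (by omega)

/-- entry `c` of a packed table of codes -/
def tab (T c : ℕ) : ℕ := (T >>> (196 * c)) &&& (2 ^ 196 - 1)

end Cfsg.Agent.Helper91.O7
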