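import Cfsg.Agent.Helper91.O7.Checks
import Cfsg.Agent.Helper23.O7I
import Cfsg.Agent.Helper42.O7Z
import Cfsg.Agent.Helper33.O7L

/-!
# `Ω₇(3)`: general lemmas on codes, units and trees
-/

set_option autoImplicit false

namespace Cfsg.Agent.Helper91.O7

open Matrix

/-! ### normal forms -/

theorem ent_idCode (l j : ℕ) (hl : l < 7) (hj : j < 7) :
    ent idCode l j = if l = j then 1 else 0 := by
  interval_cases l <;> interval_cases j <;> rfl

theorem pe_idCode (X i j : ℕ) (hj : j < 7) : pe X idCode i j = ent X i j % 3 := by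
  unfold pe
  rw [ent_idCode 0 j (by norm_num) hj, ent_idCode 1 j (by norm_num) hj,
    ent_idCode 2 j (by norm_num) hj, ent_idCode 3 j (by norm_num) hj,
    ent_idCode 4 j (by norm_num) hj, ent_idCode 5 j (by norm_num) hj,
    ent_idCode 6 j (by norm_num) hj]
  interval_cases j <;>
  simp only [Nat.reduceEqDiff, OfNat.ofNat_ne_zero, OfNat.zero_ne_ofNat, ↓reduceIte,
    mul_zero, mul_one, zero_add, add_zero]

theorem normCode_mulCode (A B : ℕ) : normCode (mulCode A B) = mulCode A B := by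
  show pack (List.map (fun k => pe (mulCode A B) idCode (k / 7) (k % 7)) (List.range 49))
    = pack (List.map (fun k => pe A B (k / 7) (k % 7)) (List.range 49))
  refine congrArg pack ?_
  apply List.map_congr_left
  intro k hk
  rw [List.mem_range] at hk
  rw [pe_idCode _ _ _ (Nat.mod_lt _ (by norm_num)),
    ent_mulCode A B (k / 7) (k % 7) (by omega) (Nat.mod_lt _ (by norm_num)),
    Nat.mod_eq_of_lt (pe_lt _ _ _ _)]

theorem normCode_idCode : normCode idCode = idCode := by decide +kernel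

/-- codes in normal form with the same matrix are equal -/
theorem code_eq_of_toMat_eq {A B : ℕ} (hA : normCode A = A) (hB : normCode B = B)
    (h : toMat A = toMat B) : A = B := by
  rw [← hA, ← hB]
  exact normCode_congr h

/-! ### units from codes -/

theorem unit_mul_val {u v : U7} {A B : ℕ} (hu : u.val = toMat A) (hv : v.val = toMat B) :
    (u * v).val = toMat (mulCode A B) := by
  rw [Units.val_mul, hu, hv, toMat_mulCode]

theorem unit_eq_of_code {u v : U7} {A : ℕ} (hu : u.val = toMat A) (hv : v.val = toMat A) :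
    u = v :=
  Units.ext (hu.trans hv.symm)

theorem unit_cube_of_cubeOK {u : U7} {A : ℕ} (hu : u.val = toMat A) (h : cubeOK A = true) :
    u ^ 3 = 1 := by
  apply Units.ext
  have h1 : mulCode (mulCode A A) A = idCode := beq_iff_eq.1 h
  rw [Units.val_pow_eq_pow_val, hu, Units.val_one, pow_succ, pow_two, ← toMat_mulCode,
    ← toMat_mulCode, h1, toMat_idCode]

theorem exists_unit_of_triOK {A : ℕ} (h : triOK A = true) :
    ∃ u : U7, u.val = toMat A ∧ u ∈ OM ∧ u ^ 3 = 1 := by
  unfold triOK at h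
  rw [Bool.and_eq_true] at h
  obtain ⟨u, hu, huO⟩ := Cfsg.Agent.Helper23.O7.exists_unit_of_gramOK h.1
  exact ⟨u, hu, huO, unit_cube_of_cubeOK hu h.2⟩

/-- an entry of a list of products of three isometries of order dividing three lies in `Ω` -/
theorem exists_unit_of_facOK (M : Model) {D m : ℕ} (h : facOK D m = true) :
    ∃ u : U7, u.val = toMat (tab D (4 * m)) ∧ u ∈ M.Om := by
  unfold facOK at h
  rw [withNat_eq, withNat_eq, withNat_eq, Bool.and_eq_true, Bool.and_eq_true, Bool.and_eq_true] at h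
  simp only [triU_eq, mulU_eq] at h
  obtain ⟨⟨⟨h1, h2⟩, h3⟩, h4⟩ := h
  obtain ⟨u1, hu1, hO1, hc1⟩ := exists_unit_of_triOK h1
  obtain ⟨u2, hu2, hO2, hc2⟩ := exists_unit_of_triOK h2
  obtain ⟨u3, hu3, hO3, hc3⟩ := exists_unit_of_triOK h3
  refine ⟨u1 * u2 * u3, ?_, ?_⟩
  · rw [unit_mul_val (unit_mul_val hu1 hu2) hu3, beq_iff_eq.1 h4]
  · exact M.Om.mul_mem (M.Om.mul_mem (M.three u1 hO1 hc1) (M.three u2 hO2 hc2))
      (M.three u3 hO3 hc3)

/-! ### strictly increasing keys -/

theorem lt_of_succ_lt (k : ℕ → ℕ) (n : ℕ) (h : ∀ i, i + 1 < n → k i < k (i + 1)) :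
    ∀ i j, i < j → j < n → k i < k j := by
  intro i j hij
  obtain ⟨d, rfl⟩ : ∃ d, j = i + d + 1 := ⟨j - i - 1, by omega⟩
  clear hij
  induction d with
  | zero => intro hj; exact h i hj
  | succ d ih =>
    intro hj
    exact lt_trans (ih (by omega)) (h (i + d + 1) hj)

theorem inj_of_succ_lt (k : ℕ → ℕ) (n : ℕ) (h : ∀ i, i + 1 < n → k i < k (i + 1)) :
    ∀ i, i < n → ∀ j, j < n → k i = k j → i = j := by
  intro i hi j hj hk
  rcases Nat.lt_trichotomy i j with h1 | h1 | h1
  · exact absurd hk (ne_of_lt (lt_of_succ_lt k n h i j h1 hj))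
  · exact h1
  · exact absurd hk.symm (ne_of_lt (lt_of_succ_lt k n h j i h1 hi))

/-! ### conjugate cyclic subgroups -/

theorem zconj_ord3 {G : Type*} [Group G] {K : Subgroup G} {x y : G} (h : zconj K x y)
    (hx3 : x ^ 3 = 1) (hx1 : x ≠ 1) : y ^ 3 = 1 ∧ y ≠ 1 := by
  obtain ⟨k, -, e⟩ := h
  have hc3 : (k * x * k⁻¹) ^ 3 = 1 := by
    rw [conj_pow, hx3, mul_one, mul_inv_cancel]
  constructor
  · have hy : y ∈ Subgroup.zpowers (k * x * k⁻¹) := by
      rw [e]
      exact Subgroup.mem_zpowers y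
    obtain ⟨m, rfl⟩ := Subgroup.mem_zpowers_iff.1 hy
    rw [← zpow_natCast, ← _root_.zpow_mul, mul_comm, _root_.zpow_mul, zpow_natCast, hc3, _root_.one_zpow]
  · rintro rfl
    have hm : k * x * k⁻¹ ∈ Subgroup.zpowers (1 : G) := by
      rw [← e]
      exact Subgroup.mem_zpowers _
    rw [Subgroup.zpowers_one_eq_bot, Subgroup.mem_bot] at hm
    apply hx1
    have h2 : x = k⁻¹ * (k * x * k⁻¹) * k := by group
    rw [h2, hm, mul_one, inv_mul_cancel]

/-- the classes of the entries of a table from a tree of conjugations -/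
theorem tree_zconj {G : Type*} [Group G] (K : Subgroup G) (n : ℕ) (t : ℕ → G) {r : ℕ}
    (y : Fin r → G) (dep : ℕ → ℕ)
    (hstep : ∀ c < n, t c ^ 3 = 1 → t c ≠ 1 →
      (∃ i, t c = y i) ∨ (∃ c' < n, dep c' < dep c ∧ zconj K (t c) (t c'))) :
    ∀ c < n, t c ^ 3 = 1 → t c ≠ 1 → ∃ i, zconj K (t c) (y i) := by
  have key : ∀ d c, dep c = d → c < n → t c ^ 3 = 1 → t c ≠ 1 → ∃ i, zconj K (t c) (y i) := by
    intro d
    induction d using Nat.strong_induction_on with
    | _ d ih =>
      intro c hd hc h3 h1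
      rcases hstep c hc h3 h1 with ⟨i, hi⟩ | ⟨c', hc', hdep, hz⟩
      · exact ⟨i, hi ▸ Cfsg.Agent.Helper42.O7.zconj_refl K (t c)⟩
      · obtain ⟨h3', h1'⟩ := zconj_ord3 hz h3 h1
        obtain ⟨i, hi⟩ := ih (dep c') (by omega) c' rfl hc' h3' h1'
        exact ⟨i, Cfsg.Agent.Helper42.O7.zconj_trans hz hi⟩
  intro c
  exact key (dep c) c rfl

/-! ### keys of cyclic subgroups of order three -/

theorem pairKey_eq {D D' : ℕ} {d d' : U7} (hd : d.val = toMat D) (hd' : d'.val = toMat D')
    (hn : normCode D = D) (hn' : normCode D' = D') (hd3 : d ^ 3 = 1)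
    (h : d' = d ∨ d' = d ^ 2) : pairKey D' = pairKey D := by
  rcases h with h | h
  · have : D' = D := by
      apply code_eq_of_toMat_eq hn' hn
      rw [← hd', ← hd, h]
    rw [this]
  · have h1 : D' = mulCode D D := by
      apply code_eq_of_toMat_eq hn' (normCode_mulCode D D)
      rw [← hd', ← unit_mul_val hd hd, h, pow_two]
    have h4 : d' * d' = d := by
      rw [h]
      calc d ^ 2 * d ^ 2 = d ^ 3 * d := by group
        _ = d := by rw [hd3, one_mul]
    have h2 : mulCode D' D' = D := by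
      apply code_eq_of_toMat_eq (normCode_mulCode D' D') hn
      rw [← unit_mul_val hd' hd', ← hd, h4]
    unfold pairKey
    rw [mulU_eq, mulU_eq, h2, h1, min_comm]

/-! ### columns -/

theorem mem_lineStab_of_colIs {A : ℕ} {u : U7} (hu : u.val = toMat A) (j : Fin 7)
    (h : colIs A j 1 = true ∨ colIs A j 2 = true) : u ∈ lineStab (Pi.single j 1) := by
  rw [mem_lineStab]
  have hcol : ∀ i : Fin 7, (u.val *ᵥ (Pi.single j 1)) i = ((ent A i j : ℕ) : ZMod 3) := by
    intro i
    rw [Matrix.mulVec_single_one, hu]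
    rfl
  have hent : ∀ s : ℕ, colIs A j s = true → ∀ i : Fin 7,
      ((ent A i j : ℕ) : ZMod 3) = ((if (i : ℕ) = (j : ℕ) then s else 0 : ℕ) : ZMod 3) := by
    intro s hs i
    unfold colIs at hs
    rw [List.all_eq_true] at hs
    have h1 := hs i (List.mem_range.2 i.isLt)
    rw [beq_iff_eq] at h1
    rw [← ZMod.natCast_mod, h1]
  rcases h with h | h
  · left
    funext i
    rw [hcol, hent 1 h i]
    by_cases hij : i = j
    · subst hij
      simp
    · have : (i : ℕ) ≠ (j : ℕ) := fun e => hij (Fin.ext e)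
      simp [this, hij]
  · right
    funext i
    rw [hcol, hent 2 h i]
    by_cases hij : i = j
    · subst hij
      simp only [if_true, Pi.neg_apply, Pi.single_eq_same]
      decide
    · have : (i : ℕ) ≠ (j : ℕ) := fun e => hij (Fin.ext e)
      simp [this, hij]

end Cfsg.Agent.Helper91.O7
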