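import Cfsg.Agent.Helper91.O7.Glue1
import Cfsg.Agent.Helper91.O7.ChkAll
import Cfsg.Agent.Helper12.O7P
import Cfsg.Agent.Helper64.O7S

/-!
# `Ω₇(3)`: the Sylow `3`-subgroup and the classes of its elements of order three
-/

set_option autoImplicit false

namespace Cfsg.Agent.Helper91.O7

open Matrix

/-! ### the facts checked by the kernel, as propositions -/

/-- the codes of the generators -/
def gCf (i : Fin 3) : ℕ :=
  match i with
  | 0 => gC0
  | 1 => gC1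
  | 2 => gC2

/-- the tables of the left multiplications by the generators -/
noncomputable def nxtF (i : Fin 3) (c : ℕ) : ℕ :=
  match i with
  | 0 => fld nxtDat0 15 c
  | 1 => fld nxtDat1 15 c
  | 2 => fld nxtDat2 15 c

theorem tab_T0 : tbl 0 = idCode := beq_iff_eq.1 chkT0

theorem tab_T82 : tbl 82 = aCode := beq_iff_eq.1 chkA

theorem nxtOK_spec {tb : ℕ → ℕ} {N g c : ℕ} (h : nxtOK tb N g c = true) :
    fld N 15 c < nT ∧ mulCode g (tb c) = tb (fld N 15 c) := by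
  rw [nxtOK, withNat_eq, withNat_eq, Bool.and_eq_true, Nat.blt_eq, beq_iff_eq] at h
  simp only [mulU_eq] at h
  exact h

theorem T_nxt (i : Fin 3) (c : ℕ) (hc : c < nT) :
    nxtF i c < nT ∧ mulCode (gCf i) (tbl c) = tbl (nxtF i c) := by
  fin_cases i
  · exact nxtOK_spec (nxtOK_all0 c hc)
  · exact nxtOK_spec (nxtOK_all1 c hc)
  · exact nxtOK_spec (nxtOK_all2 c hc)

theorem T_tree (c : ℕ) (hc : c < nT) : c = 0 ∨
    (sylPar sylDat c < nT ∧ sylDep sylDat (sylPar sylDat c) < sylDep sylDat c ∧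
      ∃ i : Fin 3, nxtF i (sylPar sylDat c) = c) := by
  have h := sylOK_all c hc
  rw [sylOK, Bool.or_eq_true, beq_iff_eq, withNat_eq, Bool.and_eq_true, Bool.and_eq_true,
    Nat.blt_eq, Nat.blt_eq, Bool.or_eq_true, Bool.or_eq_true, Bool.and_eq_true,
    Bool.and_eq_true, Bool.and_eq_true, beq_iff_eq, beq_iff_eq, beq_iff_eq, beq_iff_eq,
    beq_iff_eq, beq_iff_eq] at h
  rcases h with h | ⟨⟨h1, h2⟩, h3⟩
  · exact Or.inl h
  · refine Or.inr ⟨h1, h2, ?_⟩
    rcases h3 with (⟨-, h3⟩ | ⟨-, h3⟩) | ⟨-, h3⟩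
    · exact ⟨0, h3⟩
    · exact ⟨1, h3⟩
    · exact ⟨2, h3⟩

theorem nT_eq : nT = 19683 := rfl

theorem T_sort (c : ℕ) (hc : c + 1 < nT) : tbl c < tbl (c + 1) := by
  rw [nT_eq] at hc
  have h := sortOK_all c (by omega)
  rw [sortOK, Bool.or_eq_true, beq_iff_eq, Nat.blt_eq, nT_eq] at h
  rcases h with h | h
  · omega
  · exact h

theorem T_norm (c : ℕ) (hc : c < nT) : normCode (tbl c) = tbl c := by
  rcases T_tree c hc with rfl | ⟨h1, -, i, hi⟩
  · rw [tab_T0, normCode_idCode]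
  · rw [← hi, ← (T_nxt i _ h1).2, normCode_mulCode]

theorem T_inj : ∀ c < nT, ∀ c' < nT, toMat (tbl c) = toMat (tbl c') → c = c' := by
  intro c hc c' hc' h
  have h1 : tbl c = tbl c' := code_eq_of_toMat_eq (T_norm c hc) (T_norm c' hc') h
  exact inj_of_succ_lt tbl nT T_sort c hc c' hc' h1

/-! ### the Sylow `3`-subgroup -/

theorem exists_gens :
    ∃ gu : Fin 3 → U7, (∀ i, (gu i).val = toMat (gCf i)) ∧ (∀ i, gu i ∈ OM) ∧
      ∀ i, gu i ^ 3 = 1 := by
  have h := chkGens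
  rw [Bool.and_eq_true, Bool.and_eq_true] at h
  simp only [triU_eq] at h
  obtain ⟨⟨h0, h1⟩, h2⟩ := h
  have hall : ∀ i : Fin 3, ∃ u : U7, u.val = toMat (gCf i) ∧ u ∈ OM ∧ u ^ 3 = 1 := by
    intro i
    fin_cases i
    · exact exists_unit_of_triOK h0
    · exact exists_unit_of_triOK h1
    · exact exists_unit_of_triOK h2
  choose gu hgu using hall
  exact ⟨gu, fun i => (hgu i).1, fun i => (hgu i).2.1, fun i => (hgu i).2.2⟩

/-- the Sylow `3`-subgroup `P` of `Ω`, with its table -/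
theorem exists_sylow_table (M : Model) :
    ∃ (P : Subgroup U7) (t : ℕ → U7), P ≤ M.Om ∧ Nat.card P = 3 ^ 9 ∧
      (∀ c < nT, (t c).val = toMat (tbl c)) ∧ (∀ c < nT, t c ∈ P) ∧
      ∀ u ∈ P, ∃ c < nT, u = t c := by
  obtain ⟨gu, hgu, hguO, hgu3⟩ := exists_gens
  obtain ⟨t, ht, hmem, hcard⟩ := Cfsg.Agent.Helper12.O7.closure_table_aux U
    (fun h => U_eq h) tbl nT gCf nxtF
    (sylPar sylDat) (sylDep sylDat) gu hgu hgu3 (by norm_num [nT])
    (by rw [tab_T0, toMat_idCode]) T_nxt T_tree T_inj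
  refine ⟨Subgroup.closure (Set.range gu), t, ?_, ?_, ht, ?_, ?_⟩
  · rw [Subgroup.closure_le]
    rintro _ ⟨i, rfl⟩
    exact M.three _ (hguO i) (hgu3 i)
  · rw [hcard]
    norm_num [nT]
  · intro c hc
    exact (hmem _).2 ⟨c, hc, rfl⟩
  · intro u hu
    exact (hmem u).1 hu

/-! ### the movers -/

theorem exists_mover (M : Model) (m : ℕ) (hm : m < 24) :
    ∃ u : U7, u.val = toMat (tab movDat (4 * m)) ∧ u ∈ M.Om :=
  exists_unit_of_facOK M (movOK_all m hm)

/-! ### the conjugation tree -/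

section tree

variable (M : Model) (t : ℕ → U7) (ht : ∀ c < nT, (t c).val = toMat (tbl c))

include ht in
theorem tree_step (c : ℕ) (hc : c < nT) (h3 : t c ^ 3 = 1) (h1 : t c ≠ 1) :
    (∃ i : Fin 7, t c = t (rootIdx i)) ∨
      ∃ c' < nT, cjDep cjDat c' < cjDep cjDat c ∧ zconj M.Om (t c) (t c') := by
  have h := cjOK_all c hc
  rw [cjOK, withNat_eq, Bool.or_eq_true, Bool.or_eq_true, Bool.or_eq_true] at h
  rcases h with ((h | h) | h) | h
  · -- not of order three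
    exfalso
    rw [Bool.and_eq_true, Bool.or_eq_true] at h
    rcases h.2 with h0 | h0
    · have h0' : c = 0 := beq_iff_eq.1 h0
      subst h0'
      apply h1
      apply Units.ext
      rw [ht 0 hc, tab_T0, toMat_idCode, Units.val_one]
    · simp only [mulU_eq] at h0
      have h4 := neOne_spec h0
      apply h4
      rw [toMat_mulCode, toMat_mulCode, ← ht c hc, ← Units.val_mul, ← Units.val_mul, ← pow_two,
        ← pow_succ, h3, Units.val_one]
  · -- a representative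
    left
    rw [Bool.and_eq_true, Bool.and_eq_true, Nat.blt_eq] at h
    obtain ⟨⟨-, h5⟩, h6⟩ := h
    refine ⟨⟨cjMov cjDat c, h5⟩, ?_⟩
    exact congrArg t (beq_iff_eq.1 h6)
  · -- a conjugation by a mover
    right
    rw [Bool.and_eq_true, Bool.and_eq_true, Bool.and_eq_true, Bool.and_eq_true, Nat.blt_eq, Nat.blt_eq, Nat.blt_eq, withNat_eq, withNat_eq] at h
    simp only [mulU_eq] at h
    obtain ⟨⟨⟨⟨-, h5⟩, h6⟩, h7⟩, h8⟩ := h
    obtain ⟨m, hm, hmO⟩ := exists_mover M (cjMov cjDat c) h7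
    refine ⟨cjTgt cjDat c, h5, h6, ?_⟩
    apply Cfsg.Agent.Helper42.O7.zconj_of_conj hmO
    apply Units.ext
    rw [unit_mul_val hm (ht c hc), unit_mul_val (ht _ h5) hm, beq_iff_eq.1 h8]
  · -- a square
    right
    rw [Bool.and_eq_true, Bool.and_eq_true, Bool.and_eq_true, Nat.blt_eq, Nat.blt_eq] at h
    simp only [mulU_eq] at h
    obtain ⟨⟨⟨-, h5⟩, h6⟩, h8⟩ := h
    refine ⟨cjTgt cjDat c, h5, h6, ?_⟩
    have h9 : t c ^ 2 = t (cjTgt cjDat c) := by
      apply Units.ext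
      rw [pow_two, unit_mul_val (ht c hc) (ht c hc), beq_iff_eq.1 h8, ht _ h5]
    rw [← h9]
    exact Cfsg.Agent.Helper42.O7.zconj_sq M.Om h3

include ht in
theorem tree_classes (c : ℕ) (hc : c < nT) (h3 : t c ^ 3 = 1) (h1 : t c ≠ 1) :
    ∃ i : Fin 7, zconj M.Om (t c) (t (rootIdx i)) :=
  tree_zconj M.Om nT t (fun i : Fin 7 => t (rootIdx i)) (cjDep cjDat)
    (fun c hc h3 h1 => tree_step M t ht c hc h3 h1) c hc h3 h1

end tree

/-- every element of order three of `Ω` is conjugate to a power of a representative -/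
theorem covering (M : Model) (P : Subgroup U7) (t : ℕ → U7) (hPO : P ≤ M.Om)
    (hP : Nat.card P = 3 ^ 9) (ht : ∀ c < nT, (t c).val = toMat (tbl c))
    (hPt : ∀ u ∈ P, ∃ c < nT, u = t c) (x : U7) (hx : x ∈ M.Om) (h3 : x ^ 3 = 1)
    (h1 : x ≠ 1) : ∃ i : Fin 7, zconj M.Om x (t (rootIdx i)) := by
  obtain ⟨k, hk, hkP⟩ := Cfsg.Agent.Helper64.O7.exists_conj_mem_of_card M.Om P hPO M.cardOm hP
    hx h3
  obtain ⟨c, hc, hct⟩ := hPt _ hkP
  have hz : zconj M.Om x (t c) := by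
    refine ⟨k, hk, ?_⟩
    rw [hct]
  obtain ⟨h3', h1'⟩ := zconj_ord3 hz h3 h1
  obtain ⟨i, hi⟩ := tree_classes M t ht c hc h3' h1'
  exact ⟨i, Cfsg.Agent.Helper42.O7.zconj_trans hz hi⟩

end Cfsg.Agent.Helper91.O7
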