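import Cfsg.Agent.Helper91.O7.Glue2
import Cfsg.Agent.Helper91.O7.ChkFix
import Cfsg.Agent.Helper64.O7C
import Cfsg.Agent.Helper33.O7W

/-!
# `Ω₇(3)`: the normaliser of the first twin subgroup
-/

set_option autoImplicit false

namespace Cfsg.Agent.Helper91.O7

open Matrix

/-- the vector spanning the image of `(a - 1) ^ 2` -/
def e1 : Fin 7 → ZMod 3 := Pi.single 1 1

/-- the form with `(a - 1) ^ 2 = e1 ⊗ φ4` -/
def φ4 : Fin 7 → ZMod 3 := Pi.single 4 1

theorem sq_sub_one_aCode :
    (toMat aCode - 1) * (toMat aCode - 1) = Matrix.vecMulVec e1 φ4 := by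
  decide +kernel

theorem zpowers_sq_eq {G : Type*} [Group G] {a : G} (ha : a ^ 3 = 1) :
    Subgroup.zpowers (a ^ 2) = Subgroup.zpowers a := by
  apply le_antisymm
  · rw [Subgroup.zpowers_le]
    exact (Subgroup.zpowers a).pow_mem (Subgroup.mem_zpowers a) 2
  · rw [Subgroup.zpowers_le]
    have h4 : (a ^ 2) ^ 2 = a := by
      calc (a ^ 2) ^ 2 = a ^ 3 * a := by group
        _ = a := by rw [ha, one_mul]
    have h5 := (Subgroup.zpowers (a ^ 2)).pow_mem (Subgroup.mem_zpowers (a ^ 2)) 2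
    rw [h4] at h5
    exact h5

section twin

variable (a : U7) (ha : a.val = toMat aCode)

include ha in
theorem a_ne_one : a ≠ 1 := by
  intro h
  apply neOne_spec chkANe
  rw [← ha, h, Units.val_one]

include ha in
theorem Nz_a_le (ha3 : a ^ 3 = 1) : Nz a ≤ lineStab e1 := by
  apply Cfsg.Agent.Helper33.O7.Nz_le_lineStab a ha3 e1 φ4
  · intro h
    have := congrFun h 1
    revert this
    decide
  · intro h
    have := congrFun h 4
    revert this
    decide
  · rw [ha]
    exact sq_sub_one_aCode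

/-! ### the stabiliser of the line has index at least `364` -/

theorem lineOK_spec {G i : ℕ} (h : lineOK G i = true) :
    gramOK (tab G i) = true ∧
      (i + 1 = 364 ∨ lineKey (tab G i) 1 < lineKey (tab G (i + 1)) 1) := by
  rw [lineOK, withNat_eq, withNat_eq, Bool.and_eq_true, Bool.or_eq_true, beq_iff_eq, Nat.blt_eq] at h
  simp only [gramU_eq] at h
  exact h

theorem card_lineStab_le [Finite OM] :
    364 * Nat.card (lineStab e1 ⊓ OM : Subgroup U7) ≤ Nat.card OM := by
  have hex : ∀ i : Fin 364, ∃ u : U7, u.val = toMat (tab g364 i) ∧ u ∈ OM := fun i =>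
    Cfsg.Agent.Helper23.O7.exists_unit_of_gramOK (lineOK_spec (lineOK_all i i.isLt)).1
  choose g hg hgO using hex
  apply Cfsg.Agent.Helper64.O7.card_mul_le_of_cosets OM (lineStab e1 ⊓ OM) inf_le_right g hgO
  intro i j hij
  have hkey := Cfsg.Agent.Helper33.O7.lineKey_eq_of_mem_lineStab (hg i) (hg j) 1
    (Subgroup.mem_inf.1 hij).1
  have hinj := inj_of_succ_lt (fun i => lineKey (tab g364 i) 1) 364 (by
    intro i hi
    rcases (lineOK_spec (lineOK_all i (by omega))).2 with h | h
    · omega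
    · exact h) i i.isLt j j.isLt hkey
  exact Fin.ext hinj

/-! ### the normaliser has index at least `720` in the stabiliser of the line -/

theorem conjOK_spec {H A j : ℕ} (h : conjOK H A j = true) :
    gramOK (tab H (2 * j)) = true ∧
      (colIs (tab H (2 * j)) 1 1 = true ∨ colIs (tab H (2 * j)) 1 2 = true) ∧
      mulCode (tab H (2 * j)) A = mulCode (tab H (2 * j + 1)) (tab H (2 * j)) ∧
      normCode (tab H (2 * j + 1)) = tab H (2 * j + 1) ∧
      (j + 1 = 720 ∨
        pairKey (tab H (2 * j + 1)) < pairKey (tab H (2 * (j + 1) + 1))) := by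
  rw [conjOK, withNat_eq, withNat_eq, withNat_eq, Bool.and_eq_true, Bool.and_eq_true, Bool.and_eq_true, Bool.and_eq_true, Bool.or_eq_true, Bool.or_eq_true, Nat.blt_eq] at h
  simp only [gramU_eq, mulU_eq] at h
  obtain ⟨⟨⟨⟨h1, h2⟩, h3⟩, h4⟩, h5⟩ := h
  refine ⟨h1, h2, beq_iff_eq.1 h3, beq_iff_eq.1 h4, ?_⟩
  rcases h5 with h5 | h5
  · exact Or.inl (beq_iff_eq.1 h5)
  · exact Or.inr h5

include ha in
theorem card_Nz_le_lineStab (ha3 : a ^ 3 = 1) [Finite OM] :
    720 * Nat.card (Nz a ⊓ OM : Subgroup U7) ≤ Nat.card (lineStab e1 ⊓ OM : Subgroup U7) := by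
  have hex : ∀ j : Fin 720, ∃ u : U7, u.val = toMat (tab h720 (2 * j)) ∧ u ∈ OM := fun j =>
    Cfsg.Agent.Helper23.O7.exists_unit_of_gramOK (conjOK_spec (conjOK_all j j.isLt)).1
  choose h hh hhO using hex
  -- the conjugates of `a`
  have hd : ∀ j : Fin 720, (h j * a * (h j)⁻¹).val = toMat (tab h720 (2 * j + 1)) := by
    intro j
    have h3 := (conjOK_spec (conjOK_all j j.isLt)).2.2.1
    have h4 : (h j * a * (h j)⁻¹).val * (h j).val
        = toMat (tab h720 (2 * j + 1)) * (h j).val := by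
      rw [← Units.val_mul, inv_mul_cancel_right, unit_mul_val (hh j) ha, h3, toMat_mulCode,
        hh j]
    exact (h j).isUnit.mul_left_inj.1 h4
  have hd3 : ∀ j : Fin 720, (h j * a * (h j)⁻¹) ^ 3 = 1 := by
    intro j
    rw [conj_pow, ha3, mul_one, mul_inv_cancel]
  have : Finite (lineStab e1 ⊓ OM : Subgroup U7) :=
    Finite.of_injective (fun x : (lineStab e1 ⊓ OM : Subgroup U7) =>
      (⟨x.1, (Subgroup.mem_inf.1 x.2).2⟩ : OM)) (fun x y hxy => Subtype.ext (by
        have := congrArg Subtype.val hxy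
        exact this))
  apply Cfsg.Agent.Helper64.O7.card_mul_le_of_cosets (lineStab e1 ⊓ OM) (Nz a ⊓ OM)
    (inf_le_inf_right OM (Nz_a_le a ha ha3)) h
  · intro j
    exact Subgroup.mem_inf.2 ⟨mem_lineStab_of_colIs (hh j) 1
      (conjOK_spec (conjOK_all j j.isLt)).2.1, hhO j⟩
  · intro i j hij
    have h1 := Cfsg.Agent.Helper33.O7.mem_Nz_iff.1 (Subgroup.mem_inf.1 hij).1
    have h2 := Cfsg.Agent.Helper42.O7.zpowers_conj_congr (h i) h1
    have h3 : h i * ((h i)⁻¹ * h j * a * ((h i)⁻¹ * h j)⁻¹) * (h i)⁻¹ = h j * a * (h j)⁻¹ := by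
      group
    rw [h3] at h2
    have h4 : h j * a * (h j)⁻¹ ∈ Subgroup.zpowers (h i * a * (h i)⁻¹) := by
      rw [← h2]
      exact Subgroup.mem_zpowers _
    have h5 : h j * a * (h j)⁻¹ = h i * a * (h i)⁻¹ ∨
        h j * a * (h j)⁻¹ = (h i * a * (h i)⁻¹) ^ 2 := by
      rcases Cfsg.Agent.Helper33.O7.mem_zpowers_cube_aux (hd3 i) h4 with h6 | h6 | h6
      · exfalso
        apply a_ne_one a ha
        have h7 : a = (h j)⁻¹ * (h j * a * (h j)⁻¹) * h j := by group
        rw [h7, h6, mul_one, inv_mul_cancel]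
      · exact Or.inl h6
      · exact Or.inr h6
    have hkey := pairKey_eq (hd i) (hd j) (conjOK_spec (conjOK_all i i.isLt)).2.2.2.1
      (conjOK_spec (conjOK_all j j.isLt)).2.2.2.1 (hd3 i) h5
    have hinj := inj_of_succ_lt (fun j => pairKey (tab h720 (2 * j + 1))) 720 (by
      intro j hj
      rcases (conjOK_spec (conjOK_all j (by omega))).2.2.2.2 with h | h
      · omega
      · exact h) j j.isLt i i.isLt hkey
    exact (Fin.ext hinj).symm

include ha in
/-- the normaliser of `⟨a⟩` in the orthogonal group has at most `69984` elements -/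
theorem card_Nz_OM_le (ha3 : a ^ 3 = 1) (cardO : Nat.card OM = 18341406720) :
    Nat.card (Nz a ⊓ OM : Subgroup U7) ≤ 69984 := by
  have : Finite OM := Nat.finite_of_card_ne_zero (by rw [cardO]; norm_num)
  have h1 := card_lineStab_le
  have h2 := card_Nz_le_lineStab a ha ha3
  rw [cardO] at h1
  omega

end twin

end Cfsg.Agent.Helper91.O7
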