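import Cfsg.Agent.Helper91.O7.Glue3

/-!
# `Ω₇(3)`: a lower bound for the normaliser of the first twin subgroup in `Ω`
-/

set_option autoImplicit false

namespace Cfsg.Agent.Helper91.O7

open Matrix

theorem npOK_spec {tb : ℕ → ℕ} {P A k : ℕ} (h : npOK tb P A k = true) :
    (fld P 16 k &&& 32767) < nT ∧
      (k + 1 = 2187 ∨ (fld P 16 k &&& 32767) < (fld P 16 (k + 1) &&& 32767)) ∧
      (mulCode (tb (fld P 16 k &&& 32767)) A = mulCode A (tb (fld P 16 k &&& 32767)) ∨
        mulCode (tb (fld P 16 k &&& 32767)) A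
          = mulCode (mulCode A A) (tb (fld P 16 k &&& 32767))) := by
  rw [npOK, withNat_eq, withNat_eq, Bool.and_eq_true, Bool.and_eq_true, Nat.blt_eq, Bool.or_eq_true, Bool.or_eq_true, Nat.blt_eq, Bool.and_eq_true, Bool.and_eq_true] at h
  simp only [mulU_eq] at h
  obtain ⟨⟨h1, h2⟩, h3⟩ := h
  refine ⟨h1, ?_, ?_⟩
  · rcases h2 with h2 | h2
    · exact Or.inl (beq_iff_eq.1 h2)
    · exact Or.inr h2
  · rcases h3 with h3 | h3
    · exact Or.inl (beq_iff_eq.1 h3.2)
    · exact Or.inr (beq_iff_eq.1 h3.2)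

theorem s2OK_spec {S Nr A i : ℕ} (h : s2OK S Nr A i = true) :
    normCode (tab S (4 * i)) = tab S (4 * i) ∧
      (i + 1 = 16 ∨ tab S (4 * i) < tab S (4 * (i + 1))) ∧
      (mulCode (tab S (4 * i)) A = mulCode A (tab S (4 * i)) ∨
        mulCode (tab S (4 * i)) A = mulCode (mulCode A A) (tab S (4 * i))) := by
  rw [s2OK, withNat_eq, Bool.and_eq_true, Bool.and_eq_true, Bool.or_eq_true, Bool.or_eq_true, Nat.blt_eq, Bool.and_eq_true, Bool.and_eq_true] at h
  simp only [mulU_eq] at h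
  obtain ⟨⟨h1, h2⟩, h3⟩ := h
  refine ⟨beq_iff_eq.1 h1, ?_, ?_⟩
  · rcases h2 with h2 | h2
    · exact Or.inl (beq_iff_eq.1 h2)
    · exact Or.inr h2
  · rcases h3 with h3 | h3
    · exact Or.inl (beq_iff_eq.1 h3.2)
    · exact Or.inr (beq_iff_eq.1 h3.2)

/-- a unit whose code satisfies one of the two commutation relations with `a` normalises `⟨a⟩` -/
theorem mem_Nz_of_codes {a u : U7} {A C : ℕ} (ha : a.val = toMat A) (hu : u.val = toMat C)
    (ha3 : a ^ 3 = 1)
    (h : mulCode C A = mulCode A C ∨ mulCode C A = mulCode (mulCode A A) C) : u ∈ Nz a := by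
  rw [Cfsg.Agent.Helper33.O7.mem_Nz_iff]
  rcases h with h | h
  · have h1 : u * a = a * u := by
      apply Units.ext
      rw [unit_mul_val hu ha, unit_mul_val ha hu, h]
    rw [h1, mul_inv_cancel_right]
  · have h1 : u * a = a ^ 2 * u := by
      apply Units.ext
      rw [pow_two, unit_mul_val hu ha, unit_mul_val (unit_mul_val ha ha) hu, h]
    rw [h1, mul_inv_cancel_right]
    exact zpowers_sq_eq ha3

theorem fld_four_lt (D k : ℕ) : fld D 4 k < 16 := by
  unfold fld
  have e : (2 : ℕ) ^ 4 - 1 = 15 := by norm_num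
  rw [e]
  have h : (D >>> (4 * k)) &&& 15 ≤ 15 := Nat.and_le_right
  omega

section lower

variable (M : Model) (P : Subgroup U7) (t : ℕ → U7) (hPO : P ≤ M.Om)
  (hP : Nat.card P = 3 ^ 9) (ht : ∀ c < nT, (t c).val = toMat (tbl c))
  (hPt : ∀ c < nT, t c ∈ P) (a : U7) (ha : a.val = toMat aCode) (ha3 : a ^ 3 = 1)

include hP ht hPt ha ha3 in
theorem exists_three_subgroup :
    ∃ R : Subgroup U7, R ≤ Nz a ⊓ P ∧ 3 ^ 7 ∣ Nat.card R := by
  refine ⟨Nz a ⊓ P, le_refl _, ?_⟩
  apply Cfsg.Agent.Helper64.O7.three_pow_dvd_card P (Nz a ⊓ P) hP inf_le_right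
  have : Finite P := Nat.finite_of_card_ne_zero (by rw [hP]; norm_num)
  have : Finite (Nz a ⊓ P : Subgroup U7) :=
    Finite.of_injective (fun x : (Nz a ⊓ P : Subgroup U7) =>
      (⟨x.1, (Subgroup.mem_inf.1 x.2).2⟩ : P)) (fun x y hxy => Subtype.ext (by
        have := congrArg Subtype.val hxy
        exact this))
  have hspec : ∀ k : Fin 2187, _ := fun k => npOK_spec (npOK_all k k.isLt)
  let f : Fin 2187 → (Nz a ⊓ P : Subgroup U7) := fun k =>
    ⟨t (fld npDat 16 k &&& 32767), Subgroup.mem_inf.2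
      ⟨mem_Nz_of_codes ha (ht _ (hspec k).1) ha3 (hspec k).2.2, hPt _ (hspec k).1⟩⟩
  have hf : Function.Injective f := by
    intro k k' hkk
    have h1 : t (fld npDat 16 k &&& 32767) = t (fld npDat 16 k' &&& 32767) :=
      congrArg Subtype.val hkk
    have h2 := T_inj _ (hspec k).1 _ (hspec k').1 (by
      rw [← ht _ (hspec k).1, ← ht _ (hspec k').1, h1])
    have h3 := inj_of_succ_lt (fun k => fld npDat 16 k &&& 32767) 2187 (by
      intro i hi
      rcases (npOK_spec (npOK_all i (by omega))).2.1 with h | h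
      · omega
      · exact h) k k.isLt k' k'.isLt h2
    exact Fin.ext h3
  have h4 := Nat.card_le_card_of_injective f hf
  rw [Nat.card_fin] at h4
  norm_num
  exact h4

include ha ha3 in
theorem exists_two_subgroup :
    ∃ S : Subgroup U7, S ≤ Nz a ⊓ M.Om ∧ Nat.card S = 16 := by
  have hex : ∀ i : Fin 16, ∃ u : U7, u.val = toMat (tab s2Dat (4 * i)) ∧ u ∈ M.Om := fun i =>
    exists_unit_of_facOK M (s2facOK_all i i.isLt)
  choose s hs hsO using hex
  have hspec : ∀ i : Fin 16, _ := fun i => s2OK_spec (s2OK_all i i.isLt)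
  have hinj : Function.Injective s := by
    intro i j hij
    have h1 : tab s2Dat (4 * i) = tab s2Dat (4 * j) :=
      code_eq_of_toMat_eq (hspec i).1 (hspec j).1 (by rw [← hs i, ← hs j, hij])
    have h3 := inj_of_succ_lt (fun i => tab s2Dat (4 * i)) 16 (by
      intro i hi
      rcases (s2OK_spec (s2OK_all i (by omega))).2.1 with h | h
      · omega
      · exact h) i i.isLt j j.isLt h1
    exact Fin.ext h3
  have hmul : ∀ i j : Fin 16, ∃ k : Fin 16, s i * s j = s k := by
    intro i j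
    have h1 := s2MulOK_all (16 * i + j) (by omega)
    rw [s2MulOK, withNat_eq, withNat_eq, beq_iff_eq] at h1
    simp only [mulU_eq] at h1
    have h2 : (16 * (i : ℕ) + j) / 16 = i := by omega
    have h3 : (16 * (i : ℕ) + j) % 16 = j := by omega
    rw [h2, h3] at h1
    refine ⟨⟨fld s2Mul 4 (16 * i + j), fld_four_lt _ _⟩, ?_⟩
    apply Units.ext
    rw [unit_mul_val (hs i) (hs j), h1, hs]
  obtain ⟨S, hS, hcard⟩ := Cfsg.Agent.Helper64.O7.exists_subgroup_of_closed_list
    (List.ofFn s) (List.nodup_ofFn.2 hinj) (by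
      intro h
      have := congrArg List.length h
      simp at this) (by
      intro x hx y hy
      rw [List.mem_ofFn] at hx hy
      obtain ⟨i, rfl⟩ := hx
      obtain ⟨j, rfl⟩ := hy
      obtain ⟨k, hk⟩ := hmul i j
      rw [hk, List.mem_ofFn]
      exact ⟨k, rfl⟩)
  refine ⟨S, ?_, ?_⟩
  · intro x hx
    have hx' := (hS x).1 hx
    rw [List.mem_ofFn] at hx'
    obtain ⟨i, rfl⟩ := hx'
    exact Subgroup.mem_inf.2 ⟨mem_Nz_of_codes ha (hs i) ha3 (hspec i).2.2, hsO i⟩
  · rw [hcard, List.length_ofFn]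

include hPO hP ht hPt ha ha3 in
/-- the normaliser of `⟨a⟩` in `Ω` has at least `34992` elements -/
theorem card_Nz_Om_ge : 34992 ≤ Nat.card (Nz a ⊓ M.Om : Subgroup U7) := by
  obtain ⟨R, hR, hR3⟩ := exists_three_subgroup P t hP ht hPt a ha ha3
  obtain ⟨S, hS, hS16⟩ := exists_two_subgroup M a ha ha3
  exact Cfsg.Agent.Helper64.O7.card_ge_of_subgroups (Nz a ⊓ M.Om) R S
    (le_trans hR (inf_le_inf_left _ hPO)) hS hR3 hS16

end lower

end Cfsg.Agent.Helper91.O7
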