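import Cfsg.Agent.Helper91.O7.Glue4
import Cfsg.Agent.Helper12.O7F

/-!
# `Ω₇(3)` has exactly seven classes of subgroups of order three
-/

set_option autoImplicit false

namespace Cfsg.Agent.Helper91.O7

open Matrix

/-- the numbers of fixed vectors of norm `1` of the representatives -/
def fc1 (i : Fin 7) : ℕ :=
  match i with
  | 0 => 0
  | 1 => 0
  | 2 => 72
  | 3 => 108
  | 4 => 90
  | 5 => 18
  | 6 => 0

/-- the numbers of fixed vectors of norm `2` of the representatives -/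
def fc2 (i : Fin 7) : ℕ :=
  match i with
  | 0 => 0
  | 1 => 0
  | 2 => 72
  | 3 => 54
  | 4 => 90
  | 5 => 0
  | 6 => 18

theorem rootIdx_lt (i : Fin 7) : rootIdx i < nT := by
  fin_cases i <;> norm_num [rootIdx, nT]

theorem fixCount_one (A : ℕ) : fixCount (toMat A) 1 = countFix A 1 := by
  have h := Cfsg.Agent.Helper12.O7.fixCount_toMat A 1 (by norm_num)
  rw [Nat.cast_one] at h
  exact h

theorem fixCount_two (A : ℕ) : fixCount (toMat A) 2 = countFix A 2 := by
  have h := Cfsg.Agent.Helper12.O7.fixCount_toMat A 2 (by norm_num)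
  rw [Nat.cast_ofNat] at h
  exact h

section main

variable (t : ℕ → U7) (ht : ∀ c < nT, (t c).val = toMat (tbl c))

include ht in
theorem fixCount_root (i : Fin 7) :
    fixCount (t (rootIdx i)).val 1 = fc1 i ∧ fixCount (t (rootIdx i)).val 2 = fc2 i := by
  rw [ht _ (rootIdx_lt i), fixCount_one, fixCount_two]
  fin_cases i
  · exact ⟨(withNat_eq _ _).symm.trans chkFix_82_1, (withNat_eq _ _).symm.trans chkFix_82_2⟩
  · exact ⟨(withNat_eq _ _).symm.trans chkFix_83_1, (withNat_eq _ _).symm.trans chkFix_83_2⟩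
  · exact ⟨(withNat_eq _ _).symm.trans chkFix_1_1, (withNat_eq _ _).symm.trans chkFix_1_2⟩
  · exact ⟨(withNat_eq _ _).symm.trans chkFix_3_1, (withNat_eq _ _).symm.trans chkFix_3_2⟩
  · exact ⟨(withNat_eq _ _).symm.trans chkFix_732_1, (withNat_eq _ _).symm.trans chkFix_732_2⟩
  · exact ⟨(withNat_eq _ _).symm.trans chkFix_810_1, (withNat_eq _ _).symm.trans chkFix_810_2⟩
  · exact ⟨(withNat_eq _ _).symm.trans chkFix_975_1, (withNat_eq _ _).symm.trans chkFix_975_2⟩

include ht in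
theorem root_order (i : Fin 7) : t (rootIdx i) ^ 3 = 1 ∧ t (rootIdx i) ≠ 1 := by
  have h1 := allBelow_eq_true.1 chkRoots i i.isLt
  rw [withNat_eq, Bool.and_eq_true] at h1
  simp only [cubeU_eq] at h1
  constructor
  · exact unit_cube_of_cubeOK (ht _ (rootIdx_lt i)) h1.1
  · intro h2
    apply neOne_spec h1.2
    rw [← ht _ (rootIdx_lt i), h2, Units.val_one]

end main

/-- the classes of subgroups of order three of the copy `Ω` of `Ω₇(3)` -/
theorem classesOK_Om (M : Model) : ClassesOK M.Om 7 := by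
  obtain ⟨P, t, hPO, hP, ht, hPt, hPt'⟩ := exists_sylow_table M
  have hcov := covering M P t hPO hP ht hPt'
  have hfc := fixCount_root t ht
  have hord := root_order t ht
  have hyO : ∀ i : Fin 7, t (rootIdx i) ∈ M.Om := fun i => hPO (hPt _ (rootIdx_lt i))
  -- the twins
  have ha : (t 82).val = toMat aCode := by rw [ht 82 (by norm_num [nT]), tab_T82]
  have ha3 : t 82 ^ 3 = 1 := (hord 0).1
  have ha1 : t 82 ≠ 1 := (hord 0).2
  have htw : ¬ zconj M.Om (t 82) (t 83) := by
    apply Cfsg.Agent.Helper33.O7.twin_separation M.Om M.le M.cardO M.cardOm (t 82) (t 83)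
      (card_Nz_OM_le (t 82) ha ha3 M.cardO)
      (card_Nz_Om_ge M P t hPO hP ht hPt (t 82) ha ha3)
    intro g hg
    have hx : g * t 82 * g⁻¹ ∈ M.Om := M.normal g hg _ (hyO 0)
    have hx3 : (g * t 82 * g⁻¹) ^ 3 = 1 := by rw [conj_pow, ha3, mul_one, mul_inv_cancel]
    have hx1 : g * t 82 * g⁻¹ ≠ 1 := by
      intro h
      apply ha1
      have h2 : t 82 = g⁻¹ * (g * t 82 * g⁻¹) * g := by group
      rw [h2, h, mul_one, inv_mul_cancel]
    obtain ⟨i, hi⟩ := hcov _ hx hx3 hx1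
    have hz : zconj OM (t 82) (g * t 82 * g⁻¹) := ⟨g, hg, rfl⟩
    have e1 := (Cfsg.Agent.Helper12.O7.fixCount_of_zconj (le_refl OM) hz 1).trans
      (Cfsg.Agent.Helper12.O7.fixCount_of_zconj M.le hi 1)
    have e2 := (Cfsg.Agent.Helper12.O7.fixCount_of_zconj (le_refl OM) hz 2).trans
      (Cfsg.Agent.Helper12.O7.fixCount_of_zconj M.le hi 2)
    rw [(hfc i).1] at e1
    rw [(hfc i).2] at e2
    have e1' := (hfc 0).1
    have e2' := (hfc 0).2
    have r0 : rootIdx (0 : Fin 7) = 82 := rfl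
    rw [r0] at e1' e2'
    rw [e1'] at e1
    rw [e2'] at e2
    fin_cases i
    · left; exact hi
    · right; exact hi
    all_goals (exfalso; revert e1 e2; simp [fc1, fc2])
  apply Cfsg.Agent.Helper42.O7.classesOK_of_elements M.Om (fun i : Fin 7 => t (rootIdx i)) hyO
    (fun i => (hord i).1) (fun i => (hord i).2) ?_ hcov
  intro i j h
  have e1 := Cfsg.Agent.Helper12.O7.fixCount_of_zconj M.le h 1
  have e2 := Cfsg.Agent.Helper12.O7.fixCount_of_zconj M.le h 2
  rw [(hfc i).1, (hfc j).1] at e1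
  rw [(hfc i).2, (hfc j).2] at e2
  by_contra hij
  have h01 : (i = 0 ∧ j = 1) ∨ (i = 1 ∧ j = 0) := by
    revert e1 e2 hij
    fin_cases i <;> fin_cases j <;> simp [fc1, fc2]
  rcases h01 with ⟨rfl, rfl⟩ | ⟨rfl, rfl⟩
  · exact htw h
  · exact htw (Cfsg.Agent.Helper42.O7.zconj_symm h)

end Cfsg.Agent.Helper91.O7
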